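import Groth.Agent.AgPol.K272.FibRank

/-!
# Uniqueness of the normalised morphism

* `uniq_aff` : over an affine base;
* `uniq_main : Node.Uniq g d n m`.
-/

set_option autoImplicit false
universe u

open CategoryTheory Limits MonoidalCategory CartesianMonoidalCategory AlgebraicGeometry
open scoped MonObj

namespace K272.Fr

open K117.Ag K390.PnSec Groth.Agent.Fdesc.LocGen
open Groth.Agent.Grpsch.PicGrp K732.BC

noncomputable section

section smul

variable {X : Scheme.{u}}

/-- Multiplication by a global function. -/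
def smulHom (u : Γ(X, ⊤)) (L : X.Modules) : L ⟶ L :=
  mkHom (fun U => (smulAddHom Γ(X, U) Γ(L, U)) (ores le_top u))
    (fun U a m => by
      change (ores le_top u : Γ(X, U)) • (a • m) = a • ((ores le_top u : Γ(X, U)) • m)
      rw [smul_smul, smul_smul, mul_comm])
    (fun U V h m => by
      change (ores le_top u : Γ(X, V)) • res L h m = res L h ((ores le_top u : Γ(X, U)) • m)
      rw [res_smul, ores_ores])

theorem smulHom_app (u : Γ(X, ⊤)) (L : X.Modules) (U : X.Opens) (m : Γ(L, U)) :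
    (smulHom u L).app U m = (ores le_top u : Γ(X, U)) • m := rfl

theorem smulHom_app_top (u : Γ(X, ⊤)) (L : X.Modules) (m : Γ(L, ⊤)) : (smulHom u L).app ⊤ m = u • m := by
  rw [smulHom_app, ores_refl]

/-- Multiplication by a unit. -/
def smulIso (u v : Γ(X, ⊤)) (h : u * v = 1) (L : X.Modules) : L ≅ L where
  hom := smulHom u L
  inv := smulHom v L
  hom_inv_id := by
    apply Scheme.Modules.hom_ext
    intro U
    ext m
    change (ores le_top v : Γ(X, U)) • ((ores le_top u : Γ(X, U)) • m) = m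
    rw [smul_smul, ← map_mul, mul_comm, h, map_one, one_smul]
  inv_hom_id := by
    apply Scheme.Modules.hom_ext
    intro U
    ext m
    change (ores le_top u : Γ(X, U)) • ((ores le_top v : Γ(X, U)) • m) = m
    rw [smul_smul, ← map_mul, h, map_one, one_smul]

/-- Rescaling the coordinates does not change the morphism. -/
theorem givenBy_smul {m : ℕ} {r : X ⟶ PZ.{u} m} {L : X.Modules} {s : Fin (m + 1) → Γ(L, ⊤)} (h : GivenBy r L s)
    {u : Γ(X, ⊤)} (hu : IsUnit u) : GivenBy r L (fun i => u • s i) := by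
  obtain ⟨v, hv⟩ := hu.exists_right_inv
  have h1 := h.of_iso (smulIso u v hv L)
  have h2 : (fun i => (smulIso u v hv L).hom.app ⊤ (s i)) = fun i => u • s i := by
    funext i
    exact smulHom_app_top u L (s i)
  rw [h2] at h1
  exact h1

end smul

theorem stdv_castSucc (R : Type*) [CommRing R] {m : ℕ} (k : Fin (m + 1)) :
    stdv R m k.castSucc = Pi.single k 1 := by
  unfold stdv
  rw [dif_pos (show ((k.castSucc : Fin (m + 2)) : ℕ) < m + 1 from k.2)]
  rfl

theorem stdv_last (R : Type*) [CommRing R] (m : ℕ) (i : Fin (m + 1)) : stdv R m (Fin.last (m + 1)) i = 1 := by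
  unfold stdv
  rw [dif_neg (by simp)]

section aff

variable {A : Type u} [CommRing A] {X : Scheme.{u}} [X.Over (Spec (CommRingCat.of A))] {L : X.Modules}
  [IsProper (X ↘ Spec (CommRingCat.of A))] [Flat (X ↘ Spec (CommRingCat.of A))]
  [LocallyOfFinitePresentation (X ↘ Spec (CommRingCat.of A))]

/-- **Uniqueness over an affine base.** -/
theorem uniq_aff (hL : PicF.IsInvertible L) {m : ℕ} (h : FibC (X ↘ Spec (CommRingCat.of A)) L (m + 1))
    {r r' : X ⟶ PZ.{u} m} {s s' : Fin (m + 1) → Γ(L, ⊤)} (hr : GivenBy r L s) (hr' : GivenBy r' L s')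
    {x : Fin (m + 2) → (Spec (CommRingCat.of A) ⟶ X)} (hx : ∀ k, x k ≫ (X ↘ Spec (CommRingCat.of A)) = 𝟙 _)
    (hs : ∀ k, IsStd k (x k ≫ r)) (hs' : ∀ k, IsStd k (x k ≫ r')) : r = r' := by
  choose e he hse using fun k => (isPt_comp_iff hr (x k) _).1 (hs k)
  choose e' he' hse' using fun k => (isPt_comp_iff hr' (x k) _).1 (hs' k)
  choose c hc hce using fun k => (he k).exists_unit (he' k)
  let f := X ↘ Spec (CommRingCat.of A)
  have hfx : ∀ k (a : Γ(Spec (CommRingCat.of A), ⊤)), (x k).appTop (f.appTop a) = a := by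
    intro k a
    rw [← CommRingCat.comp_apply, ← Scheme.Hom.comp_appTop, hx k]
    rfl
  have hsδ : ∀ i k, pullTop (x k.castSucc) (s i) =
      (Pi.single (M := fun _ : Fin (m + 1) => Γ(Spec (CommRingCat.of A), ⊤)) i 1 k) • e k.castSucc := by
    intro i k
    rw [hse, stdv_castSucc, Pi.single_comm]
  have key : ∀ i, s' i = f.appTop (c i.castSucc) • s i := by
    intro i
    refine ext_ev hL h (fun k => hx k.castSucc) (fun k => he k.castSucc) s hsδ fun k => ?_
    have h1 : pullTop (x k.castSucc) (f.appTop (c i.castSucc) • s i) =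
        (x k.castSucc).appTop (f.appTop (c i.castSucc)) • pullTop (x k.castSucc) (s i) := pullSec_smul _ _ _
    rw [h1, hfx, hse', hse, hce, stdv_castSucc]
    by_cases hik : i = k
    · subst hik
      rw [Pi.single_eq_same, one_smul, one_smul]
    · rw [Pi.single_eq_of_ne hik, zero_smul, zero_smul, smul_zero]
  have hcl : ∀ i : Fin (m + 1), c i.castSucc = c (Fin.last (m + 1)) := by
    intro i
    have h1 : pullTop (x (Fin.last (m + 1))) (f.appTop (c i.castSucc) • s i) =
        (x (Fin.last (m + 1))).appTop (f.appTop (c i.castSucc)) • pullTop (x (Fin.last (m + 1))) (s i) :=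
      pullSec_smul _ _ _
    rw [← key i, hfx, hse', hse, hce, stdv_last, one_smul, one_smul] at h1
    exact ((he _).ext h1).symm
  have h2 := givenBy_smul hr ((hc (Fin.last (m + 1))).map f.appTop.hom)
  have h3 : (fun i => f.appTop.hom (c (Fin.last (m + 1))) • s i) = s' := by
    funext i
    rw [key i, hcl i]
  rw [h3] at h2
  exact h2.unique' hr'

end aff

section loc

variable {S : Scheme.{u}}

theorem pull_eq_one_of_gen {X Y : Scheme.{u}} (f : Y ⟶ X) {L : X.Modules} (hL : PicF.IsInvertible L) {U : X.Opens}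
    {e : Γ(L, U)} (he : IsGen e) (h : f ⁻¹ᵁ U = ⊤) : pull f (mk L hL) = 1 := by
  rw [pull_mk, mk_eq_one_iff]
  have h1 : IsGen (res _ (ge_of_eq h) (pullSec f e)) := (he.pullSec f).res _
  obtain ⟨τ, -⟩ := exists_iso_of_isGen h1
  exact ⟨τ⟩

/-- Classes are locally trivial. -/
theorem exists_nhd_triv {X : Scheme.{u}} (c : Pic X) (x : X) :
    ∃ U : X.Opens, x ∈ U ∧ ∀ {Y : Scheme.{u}} (f : Y ⟶ X), f ⁻¹ᵁ U = ⊤ → pull f c = 1 := by
  obtain ⟨L, hL, rfl⟩ := exists_mk c
  obtain ⟨U, e, hx, he⟩ := (isInvertible_iff L).1 hL x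
  exact ⟨U, hx, fun f hf => pull_eq_one_of_gen f hL he hf⟩

theorem preimage_eq_top {X Y : Scheme.{u}} {f : Y ⟶ X} {U V : X.Opens} (h : Set.range f ⊆ V) (hUV : V ≤ U) :
    f ⁻¹ᵁ U = ⊤ := by
  rw [eq_top_iff]
  intro y _
  exact hUV (h ⟨y, rfl⟩)

/-- A family over an affine open, over `S`. -/
abbrev affO (T : Over S) {U : T.left.Opens} (hU : IsAffineOpen U) : Over S := Over.mk (hU.fromSpec ≫ T.hom)

/-- Its morphism to `T`. -/
abbrev affH (T : Over S) {U : T.left.Opens} (hU : IsAffineOpen U) : affO T hU ⟶ T := Over.homMk hU.fromSpec rfl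

theorem range_affH (T : Over S) {U : T.left.Opens} (hU : IsAffineOpen U) :
    Set.range (affH T hU).left = (U : Set T.left) := hU.range_fromSpec

/-- **UNIQ** -/
theorem uniq_main (h14161 : K515.PolFinMain.Stmt14161.{u}) {g d n m : ℕ} (hm : m + 1 = 6 ^ g * d) :
    Node.Uniq.{u} g d n m := by
  intro S T x hT hx I r r' hr hr'
  obtain ⟨N, hN⟩ := hr.cls
  obtain ⟨N', hN'⟩ := hr'.cls
  have key : ∀ t : T.left, ∃ (U : T.left.Opens) (hU : IsAffineOpen U), t ∈ U ∧
      pullback.fst x.X.hom (affH T hU).left ≫ r = pullback.fst x.X.hom (affH T hU).left ≫ r' := by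
    intro t
    obtain ⟨U₁, ht₁, h₁⟩ := exists_nhd_triv N t
    obtain ⟨U₂, ht₂, h₂⟩ := exists_nhd_triv N' t
    obtain ⟨U, hU, htU, hUle⟩ := exists_isAffineOpen_mem_and_subset (x := t) (U := U₁ ⊓ U₂) ⟨ht₁, ht₂⟩
    refine ⟨U, hU, htU, ?_⟩
    have hU₁ : (affH T hU).left ⁻¹ᵁ U₁ = ⊤ := preimage_eq_top (range_affH T hU).le (fun y hy => (hUle hy).1)
    have hU₂ : (affH T hU).left ⁻¹ᵁ U₂ = ⊤ := preimage_eq_top (range_affH T hU).le (fun y hy => (hUle hy).2)
    let A := Γ(T.left, U)
    let y : Core (affO T hU) g := x.pull (affH T hU)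
    let iX : y.X.left.Over (Spec (CommRingCat.of A)) := ⟨y.X.hom⟩
    have hab := K533.PolBC.isAbSch_bc (affH T hU).left hx.ab
    have i1 : IsProper (y.X.left ↘ Spec (CommRingCat.of A)) := hab.proper
    have i0 : Smooth (y.X.left ↘ Spec (CommRingCat.of A)) := hab.smooth
    have i2 : Flat (y.X.left ↘ Spec (CommRingCat.of A)) := inferInstance
    have i3 : LocallyOfFinitePresentation (y.X.left ↘ Spec (CommRingCat.of A)) := inferInstance
    have hy := normEmb_bc (affH T hU) x I r hr
    have hy' := normEmb_bc (affH T hU) x I r' hr'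
    have hcomm := hx.comm
    have hycomm : IsCommMonObj y.X := K533.PolBC.isCommMonObj_bc (affH T hU).left
    have hpol : IsPolCl y.X d y.c := K533.PolClBC.isPolCl_bc (affH T hU).left hx.ab hx.pol
    have e1 : pull (pullback.fst x.X.hom (affH T hU).left ≫ r) (o1 m) = y.c ^ 3 := by
      rw [pull_comp, hN, map_mul, map_pow, ← pull_comp, pullback.condition, pull_comp, h₁ _ hU₁, map_one, mul_one]
      rfl
    have e2 : pull (pullback.fst x.X.hom (affH T hU).left ≫ r') (o1 m) = y.c ^ 3 := by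
      rw [pull_comp, hN', map_mul, map_pow, ← pull_comp, pullback.condition, pull_comp, h₂ _ hU₂, map_one, mul_one]
      rfl
    let L := (Scheme.Modules.pullback (pullback.fst x.X.hom (affH T hU).left ≫ r)).obj (O1 m Z.{u})
    have hL : PicF.IsInvertible L := isInvertible_pullback _ (isInvertible_O1 m Z.{u})
    obtain ⟨e⟩ := (mk_eq_iff (isInvertible_pullback _ (isInvertible_O1 m Z.{u})) hL).1 (e2.trans e1.symm)
    refine uniq_aff (A := A) (X := y.X.left) hL (m := m)
      (fibC h14161 y.X hm hab hycomm hpol hL 1 ?_) (GivenBy.refl _) ((GivenBy.refl _).of_iso e)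
      (x := fun k => (tp y.X y.σ (I k)).left) (fun k => Over.w (tp y.X y.σ (I k))) hy.pts hy'.pts
    rw [map_one, mul_one]
    exact e1
  refine Scheme.hom_ext_of_forall _ _ fun z => ?_
  obtain ⟨U, hU, ht, h⟩ := key (x.X.hom z)
  refine ⟨x.X.hom ⁻¹ᵁ U, ht, ?_⟩
  let q : (x.X.hom ⁻¹ᵁ U).toScheme ⟶ pullback x.X.hom (affH T hU).left :=
    pullback.lift (x.X.hom ⁻¹ᵁ U).ι (Groth.Agent.Models2.FibreFreeSch.str x.X.hom hU)
      (Groth.Agent.Models2.FibreFreeSch.str_fromSpec x.X.hom hU).symm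
  have hq : q ≫ pullback.fst x.X.hom (affH T hU).left = (x.X.hom ⁻¹ᵁ U).ι := pullback.lift_fst _ _ _
  rw [← hq, Category.assoc, h, Category.assoc]

end loc

end

end K272.Fr
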