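import Groth.Agent.AgPol.K272.Pt
import Groth.Agent.AgPol.K533.PolBC
import Groth.Agent.Sga3B.Pts

/-!
# Normalised morphisms: base change and isomorphisms

`main : Node.NormBc g n m`.
-/

set_option autoImplicit false
universe u

open CategoryTheory Limits MonoidalCategory CartesianMonoidalCategory AlgebraicGeometry
open scoped MonObj

namespace K272.Fr

open K117.Ag K390.PnSec
open Groth.Agent.Grpsch.PicGrp K732.BC

noncomputable section

section tp

variable {S S' : Scheme.{u}}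

/-- Composition as a homomorphism on points. -/
def compH {X : Over S} [GrpObj X] {U V : Over S} (w : V ⟶ U) : (U ⟶ X) →* (V ⟶ X) where
  toFun a := w ≫ a
  map_one' := MonObj.comp_one _
  map_mul' a b := MonObj.comp_mul _ _ _

/-- Composition with a homomorphism as a homomorphism on points. -/
def hComp {X Y : Over S} [GrpObj X] [GrpObj Y] (f : X ⟶ Y) [IsMonHom f] (U : Over S) : (U ⟶ X) →* (U ⟶ Y) where
  toFun a := a ≫ f
  map_one' := MonObj.one_comp f
  map_mul' a b := MonObj.mul_comp _ _ _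

/-- `up` as a homomorphism on points. -/
def upH (k : S' ⟶ S) (X : Over S) [GrpObj X] (U : Over S') : (dn k U ⟶ X) →* (U ⟶ Red.bc k X) where
  toFun a := up a
  map_one' := up_one
  map_mul' a b := up_mul a b

theorem map_tp {M N : Type*} [Monoid M] [Monoid N] (φ : M →* N) {g n : ℕ} (σ : Fin (2 * g) → M)
    (a : Fin (2 * g) → Fin n) :
    φ (List.ofFn fun i => σ i ^ (a i : ℕ)).prod = (List.ofFn fun i => φ (σ i) ^ (a i : ℕ)).prod := by
  rw [map_list_prod, List.map_ofFn]
  congr 2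
  funext i
  exact map_pow φ _ _

/-- Base change of torsion points. -/
theorem tp_bc (k : S' ⟶ S) {g n : ℕ} (X : Over S) [GrpObj X] (σ : Fin (2 * g) → (𝟙_ (Over S) ⟶ X))
    (a : Fin (2 * g) → Fin n) :
    K117.Ag.tp (Red.bc k X) (fun i => secBc k (σ i)) a = secBc k (K117.Ag.tp X σ a) := by
  have h1 : ∀ s : 𝟙_ (Over S) ⟶ X, (secBc k s : 𝟙_ (Over S') ⟶ Red.bc k X) =
      (upH k X (𝟙_ (Over S'))).comp (compH (toUnit (dn k (𝟙_ (Over S'))))) s :=
    fun s => K533.PolBC.pullSec_eq k s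
  unfold tp
  rw [h1, map_tp]
  congr 2

theorem secBc_left_fst (k : S' ⟶ S) {X : Over S} (s : 𝟙_ (Over S) ⟶ X) :
    (secBc k s).left ≫ pullback.fst X.hom k = k ≫ s.left := pullback.lift_fst _ _ _

theorem tp_comp {g n : ℕ} {X Y : Over S} [GrpObj X] [GrpObj Y] (f : X ⟶ Y) [IsMonHom f]
    (σ : Fin (2 * g) → (𝟙_ (Over S) ⟶ X)) (a : Fin (2 * g) → Fin n) :
    tp X σ a ≫ f = tp Y (fun i => σ i ≫ f) a := map_tp (hComp f _) σ a

end tp

variable {S : Scheme.{u}}

theorem normEmb_bc {g n m : ℕ} {T T' : Over S} (k : T' ⟶ T) (x : Core T g) (I : Fin (m + 2) → (Fin (2 * g) → Fin n))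
    (r : x.X.left ⟶ PZ.{u} m) (h : NormEmb x.X x.c x.σ I r) :
    NormEmb (x.pull k).X (x.pull k).c (x.pull k).σ I (pullback.fst x.X.hom k.left ≫ r) := by
  refine ⟨?_, fun j => ?_⟩
  · obtain ⟨N, hN⟩ := h.cls
    refine ⟨pull k.left N, ?_⟩
    rw [pull_comp, hN, map_mul, map_pow, ← pull_comp, ← pull_comp]
    have h1 : pullback.fst x.X.hom k.left ≫ x.X.hom = (x.pull k).X.hom ≫ k.left := pullback.condition
    exact congrArg (fun t => pull (pullback.fst x.X.hom k.left) x.c ^ 3 * pull t N) h1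
  · have h1 : tp (x.pull k).X (x.pull k).σ (I j) = secBc k.left (tp x.X x.σ (I j)) :=
      tp_bc k.left x.X x.σ (I j)
    have h2 : (tp (x.pull k).X (x.pull k).σ (I j)).left ≫ pullback.fst x.X.hom k.left =
        k.left ≫ (tp x.X x.σ (I j)).left := by
      rw [h1]
      exact secBc_left_fst _ _
    have h3 : (tp (x.pull k).X (x.pull k).σ (I j)).left ≫ pullback.fst x.X.hom k.left ≫ r =
        k.left ≫ (tp x.X x.σ (I j)).left ≫ r := by
      rw [← Category.assoc, h2, Category.assoc]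
    rw [h3]
    exact isStd_comp (h.pts j) k.left

theorem normEmb_iso {g n m : ℕ} {T : Over S} (x y : Core T g) (I : Fin (m + 2) → (Fin (2 * g) → Fin n))
    (r : y.X.left ⟶ PZ.{u} m) (e : x.X ≅ y.X) (he : IsMonHom e.hom) (hc : pull e.hom.left y.c = x.c)
    (hσ : ∀ i, x.σ i ≫ e.hom = y.σ i) (h : NormEmb y.X y.c y.σ I r) : NormEmb x.X x.c x.σ I (e.hom.left ≫ r) := by
  refine ⟨?_, fun j => ?_⟩
  · obtain ⟨N, hN⟩ := h.cls
    refine ⟨N, ?_⟩
    rw [pull_comp, hN, map_mul, map_pow, hc, ← pull_comp, Over.w e.hom]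
  · have h1 : tp x.X x.σ (I j) ≫ e.hom = tp y.X y.σ (I j) := by
      rw [tp_comp]
      exact congrArg (fun σ => tp y.X σ (I j)) (funext hσ)
    have h2 : (tp x.X x.σ (I j)).left ≫ e.hom.left ≫ r = (tp y.X y.σ (I j)).left ≫ r := by
      rw [← Category.assoc, ← Over.comp_left, h1]
    rw [h2]
    exact h.pts j

/-- **NBC** -/
theorem normBc_main (g n m : ℕ) : Node.NormBc.{u} g n m where
  bc k x I r h := normEmb_bc k x I r h
  iso x y I r e he hc hσ h := normEmb_iso x y I r e he hc hσ h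

/-! ### Iterated base change -/

section comp

variable {S S' S'' : Scheme.{u}}

/-- A point over `S''` regarded over `S` in two steps. -/
abbrev st (f : S' ⟶ S) (f' : S'' ⟶ S') (U : Over S'') : dn f (dn f' U) ⟶ dn (f' ≫ f) U :=
  Over.homMk (𝟙 _) (by
    change 𝟙 _ ≫ U.hom ≫ f' ≫ f = (U.hom ≫ f') ≫ f
    rw [Category.id_comp, Category.assoc])

theorem bcComp_exists (f : S' ⟶ S) (f' : S'' ⟶ S') (A : Over S) [GrpObj A] :
    ∃ e : Red.bc (f' ≫ f) A ≅ Red.bc f' (Red.bc f A), IsMonHom e.hom ∧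
      e.hom.left ≫ pullback.fst (Red.bc f A).hom f' ≫ pullback.fst A.hom f = pullback.fst A.hom (f' ≫ f) ∧
        ∀ (U : Over S'') (a : dn (f' ≫ f) U ⟶ A), up a ≫ e.hom = up (up (st f f' U ≫ a)) := by
  let e0 : (Red.bc (f' ≫ f) A).left ≅ (Red.bc f' (Red.bc f A)).left :=
    (pullbackLeftPullbackSndIso A.hom f f').symm
  have e1 : e0.hom ≫ pullback.fst (Red.bc f A).hom f' ≫ pullback.fst A.hom f =
      pullback.fst A.hom (f' ≫ f) := pullbackLeftPullbackSndIso_inv_fst _ _ _
  have e2 : e0.hom ≫ pullback.snd (Red.bc f A).hom f' = pullback.snd A.hom (f' ≫ f) :=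
    pullbackLeftPullbackSndIso_inv_snd_snd _ _ _
  let e : Red.bc (f' ≫ f) A ≅ Red.bc f' (Red.bc f A) := Over.isoMk e0 e2
  have he : ∀ (U : Over S'') (a : dn (f' ≫ f) U ⟶ A), up a ≫ e.hom = up (up (st f f' U ≫ a)) := by
    intro U a
    apply hom_ext_bc
    apply pullback.hom_ext
    · rw [up_left_fst, up_left_fst, Over.comp_left, Category.assoc, Category.assoc]
      refine (congrArg ((up a).left ≫ ·) e1).trans ?_
      refine (up_left_fst a).trans ?_
      exact (Category.id_comp _).symm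
    · rw [up_left_fst, up_left_snd, Category.assoc]
      have h4 : (up a ≫ e.hom).left ≫ pullback.snd (Red.bc f A).hom f' = U.hom :=
        Over.w (up a ≫ e.hom)
      have h5 : pullback.fst (Red.bc f A).hom f' ≫ pullback.snd A.hom f =
        pullback.snd (Red.bc f A).hom f' ≫ f' := pullback.condition
      rw [h5, ← Category.assoc, h4]
      rfl
  refine ⟨e, ?_, e1, he⟩
  apply Groth.Agent.Sga3B.Pts.isMonHom_of_points
  intro U a b
  obtain ⟨a, rfl⟩ := exists_up a
  obtain ⟨b, rfl⟩ := exists_up b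
  rw [← up_mul, he, he, he, ← up_mul]
  congr 1
  rw [← up_mul, ← MonObj.comp_mul]

end comp

/-- Base change along a composition. -/
theorem core_pull_comp {T T' T'' : Over S} {g : ℕ} (k : T' ⟶ T) (l : T'' ⟶ T') (x : Core T g) :
    ∃ e : (x.pull (l ≫ k)).X ≅ ((x.pull k).pull l).X, IsMonHom e.hom ∧
      pull e.hom.left ((x.pull k).pull l).c = (x.pull (l ≫ k)).c ∧
        (∀ i, (x.pull (l ≫ k)).σ i ≫ e.hom = ((x.pull k).pull l).σ i) ∧
          e.hom.left ≫ pullback.fst (x.pull k).X.hom l.left ≫ pullback.fst x.X.hom k.left =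
            pullback.fst x.X.hom (l ≫ k).left := by
  obtain ⟨e, h1, h2, h3⟩ := bcComp_exists k.left l.left x.X
  refine ⟨e, h1, ?_, fun i => ?_, h2⟩
  · change pull e.hom.left (pull (pullback.fst (Red.bc k.left x.X).hom l.left) (pull (pullback.fst x.X.hom k.left) x.c)) = _
    rw [← pull_comp, ← pull_comp]
    exact congrArg (fun t => pull t x.c) ((Category.assoc _ _ _).trans h2)
  · have h4 : (x.pull (l ≫ k)).σ i = up (A := x.X) (toUnit (dn (l.left ≫ k.left) (𝟙_ (Over T''.left))) ≫ x.σ i) :=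
      K533.PolBC.pullSec_eq (l.left ≫ k.left) (x.σ i)
    have h5 : ((x.pull k).pull l).σ i = up (A := Red.bc k.left x.X) (toUnit (dn l.left (𝟙_ (Over T''.left))) ≫
        up (toUnit (dn k.left (𝟙_ (Over T'.left))) ≫ x.σ i)) := by
      have h6 := K533.PolBC.pullSec_eq l.left (secBc k.left (x.σ i))
      have h7 : (secBc k.left (x.σ i) : 𝟙_ (Over T'.left) ⟶ Red.bc k.left x.X) =
        up (toUnit (dn k.left (𝟙_ (Over T'.left))) ≫ x.σ i) := K533.PolBC.pullSec_eq k.left (x.σ i)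
      rw [h7] at h6
      exact h6
    rw [h4, h5]
    refine (h3 _ _).trans ?_
    congr 1
    rw [comp_up]
    congr 1

/-- Frames are stable under base change. -/
theorem framed_bc {g n m : ℕ} {I : Fin (m + 2) → (Fin (2 * g) → Fin n)} {T T' : Over S} (k : T' ⟶ T) {x : Core T g}
    (h : Framed I T x) : Framed I T' (x.pull k) := by
  obtain ⟨r, hr⟩ := h
  exact ⟨_, normEmb_bc k x I r hr⟩

theorem framed_comp {g n m : ℕ} {I : Fin (m + 2) → (Fin (2 * g) → Fin n)} {T T' T'' : Over S} (k : T' ⟶ T) (l : T'' ⟶ T')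
    {x : Core T g} : Framed I T'' (x.pull (l ≫ k)) ↔ Framed I T'' ((x.pull k).pull l) := by
  obtain ⟨e, h1, h2, h3, -⟩ := core_pull_comp k l x
  constructor
  · rintro ⟨r, hr⟩
    refine ⟨_, normEmb_iso ((x.pull k).pull l) (x.pull (l ≫ k)) I r e.symm ?_ ?_ ?_ hr⟩
    · exact inferInstanceAs (IsMonHom e.inv)
    · rw [← h2, ← pull_comp]
      have h4 : e.symm.hom.left ≫ e.hom.left = 𝟙 _ := by
        rw [← Over.comp_left]
        exact congrArg (fun t => t.left) e.inv_hom_id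
      rw [h4, pull_id]
    · intro i
      rw [← h3 i, Category.assoc]
      exact (congrArg (_ ≫ ·) e.hom_inv_id).trans (Category.comp_id _)
  · rintro ⟨r, hr⟩
    exact ⟨_, normEmb_iso (x.pull (l ≫ k)) ((x.pull k).pull l) I r e h1 h2 h3 hr⟩

end

end K272.Fr
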