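import Groth.Agent.AgPol.K272.Uniq
import Groth.Agent.Sga3C.QuotGlue

/-!
# Frames are local on the base

`frLocal_main : Node.FrLocal g d n m`.
-/

set_option autoImplicit false
universe u

open CategoryTheory Limits MonoidalCategory CartesianMonoidalCategory AlgebraicGeometry
open scoped MonObj

namespace K272.Fr

open K117.Ag K390.PnSec Groth.Agent.Fdesc.LocGen
open Groth.Agent.Grpsch.PicGrp K732.BC

noncomputable section

/-- A class which is locally on the base a pull back from the base is a pull back from the base. -/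
theorem exists_base_class {T : Scheme.{u}} (X : Over T) [GrpObj X] {g : ℕ} (hX : AgPol.IsAbSch X g) (δ : Pic X.left)
    (h : ∀ t : T, ∃ U : T.Opens, t ∈ U ∧ ∃ n : Pic U, pull (pullback.fst X.hom U.ι) δ =
      pull (pullback.snd X.hom U.ι) n) : ∃ N : Pic T, δ = pull X.hom N := by
  have := hX.smooth
  have := hX.proper
  have := hX.geomConnected
  have hint : GeometricallyIntegral X.hom := K814.AbBasic.geometricallyIntegral X
  choose U hU n hn using h
  let T0 : Over T := Over.mk (𝟙 T)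
  let c0 : Pic (PicF.XT X.hom T0) := pull (pullback.fst X.hom (𝟙 T)) δ
  have hσ : (η[X] : 𝟙_ (Over T) ⟶ X).left ≫ X.hom = 𝟙 T := Over.w (η[X] : 𝟙_ (Over T) ⟶ X)
  have h1 := K732.RigSheaf.norm_eq_one_of_local hσ (K732.CubeSec.bijective_XTproj X.hom)
    (K732.Cov.zar (T := T0) U hU) c0 (fun i => ⟨n i, by
      let θ : pullback X.hom ((U i).ι ≫ 𝟙 T) ⟶ pullback X.hom (U i).ι :=
        pullback.lift (pullback.fst _ _) (pullback.snd _ _) (by rw [pullback.condition, Category.comp_id])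
      have e1 : θ ≫ pullback.fst X.hom (U i).ι = pullback.fst X.hom ((U i).ι ≫ 𝟙 T) := pullback.lift_fst _ _ _
      have e2 : θ ≫ pullback.snd X.hom (U i).ι = pullback.snd X.hom ((U i).ι ≫ 𝟙 T) := pullback.lift_snd _ _ _
      have e3 : PicF.XTmap X.hom ((K732.Cov.zar (T := T0) U hU).j i) ≫ pullback.fst X.hom (𝟙 T) =
        pullback.fst X.hom ((U i).ι ≫ 𝟙 T) := Groth.Agent.Fga.RigGrp.XTmap_fst _ _
      change pull _ (pull (pullback.fst X.hom (𝟙 T)) δ) = pull (pullback.snd X.hom ((U i).ι ≫ 𝟙 T)) (n i)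
      refine (pull_comp _ _ _).symm.trans ?_
      refine (congrArg (fun f => pull f δ) e3).trans ?_
      refine (congrArg (fun f => pull f δ) e1.symm).trans ?_
      refine (pull_comp _ _ _).trans ?_
      refine (congrArg (pull θ) (hn i)).trans ?_
      refine (pull_comp _ _ _).symm.trans ?_
      exact congrArg (fun f => pull f (n i)) e2⟩)
  rw [Groth.Agent.Fga.RigGrp.norm_apply, div_eq_one] at h1
  refine ⟨pull (PicF.secT X.hom (η[X] : 𝟙_ (Over T) ⟶ X).left hσ T0) c0, ?_⟩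
  have h2 := congrArg (pull (pullback.lift (𝟙 X.left) X.hom (by simp) : X.left ⟶ pullback X.hom (𝟙 T))) h1
  change pull _ (pull (pullback.fst X.hom (𝟙 T)) δ) = _ at h2
  rw [← pull_comp, pullback.lift_fst, pull_id, ← pull_comp] at h2
  refine h2.trans ?_
  have h3 : (pullback.lift (𝟙 X.left) X.hom (by simp) : X.left ⟶ pullback X.hom (𝟙 T)) ≫ PicF.XTproj X.hom T0 = X.hom :=
    pullback.lift_snd _ _ _
  rw [h3]

variable {S : Scheme.{u}}

/-- Admissible core families are stable under base change. -/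
theorem core_pull_ok {g d n : ℕ} {T T' : Over S} (k : T' ⟶ T) {x : Core T g} (hx : Core.ok g d n T x) :
    Core.ok g d n T' (x.pull k) where
  ab := K533.PolBC.isAbSch_bc k.left hx.ab
  comm := by
    have := hx.comm
    exact K533.PolBC.isCommMonObj_bc k.left
  rig := by
    have h1 : (η[Red.bc k.left x.X] : 𝟙_ (Over T'.left) ⟶ Red.bc k.left x.X).left ≫ pullback.fst x.X.hom k.left =
        k.left ≫ (η[x.X] : 𝟙_ (Over T.left) ⟶ x.X).left := by
      have h2 : (η[Red.bc k.left x.X] : 𝟙_ (Over T'.left) ⟶ Red.bc k.left x.X) =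
          up (k := k.left) (A := x.X) (U := 𝟙_ (Over T'.left)) 1 := by
        rw [up_one, MonObj.one_eq_one]
      rw [h2, up_left_fst]
      have h3 : (1 : dn k.left (𝟙_ (Over T'.left)) ⟶ x.X) = toUnit _ ≫ (η[x.X] : 𝟙_ (Over T.left) ⟶ x.X) := by
        rw [MonObj.one_eq_one, MonObj.comp_one]
      rw [h3, Over.comp_left]
      rfl
    change pull (η[Red.bc k.left x.X] : 𝟙_ (Over T'.left) ⟶ Red.bc k.left x.X).left
      (pull (pullback.fst x.X.hom k.left) x.c) = 1
    rw [← pull_comp, h1, pull_comp, hx.rig, map_one]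
  pol := K533.PolClBC.isPolCl_bc k.left hx.ab hx.pol
  level := K533.PolBC.isLevelStr_bc k.left hx.level

/-- The comparison of base changes. -/
def resMap {T T' T'' : Over S} {g : ℕ} (x : Core T g) {k : T' ⟶ T} {l : T'' ⟶ T'} {kl : T'' ⟶ T} (h : l ≫ k = kl) :
    pullback x.X.hom kl.left ⟶ pullback x.X.hom k.left :=
  pullback.lift (pullback.fst _ _) (pullback.snd _ _ ≫ l.left) (by
    rw [pullback.condition, Category.assoc, ← Over.comp_left, h])

theorem normEmb_comp {g n m : ℕ} {I : Fin (m + 2) → (Fin (2 * g) → Fin n)} {T T' T'' : Over S} {k : T' ⟶ T}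
    {l : T'' ⟶ T'} {kl : T'' ⟶ T} (h : l ≫ k = kl) (x : Core T g) (r : pullback x.X.hom k.left ⟶ PZ.{u} m)
    (hr : NormEmb (x.pull k).X (x.pull k).c (x.pull k).σ I r) :
    NormEmb (x.pull kl).X (x.pull kl).c (x.pull kl).σ I (resMap x h ≫ r) := by
  subst h
  obtain ⟨e, h1, h2, h3, h4⟩ := core_pull_comp k l x
  have h5 := normEmb_iso (x.pull (l ≫ k)) ((x.pull k).pull l) I _ e h1 h2 h3 (normEmb_bc l (x.pull k) I r hr)
  have h6 : e.hom.left ≫ pullback.fst (x.pull k).X.hom l.left = resMap x (rfl : l ≫ k = l ≫ k) := by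
    apply pullback.hom_ext
    · refine (Category.assoc _ _ _).trans (h4.trans ?_)
      exact (pullback.lift_fst _ _ _).symm
    · have h7 : pullback.fst (x.pull k).X.hom l.left ≫ pullback.snd x.X.hom k.left =
          pullback.snd (x.pull k).X.hom l.left ≫ l.left := pullback.condition
      have h8 : e.hom.left ≫ pullback.snd (x.pull k).X.hom l.left = pullback.snd x.X.hom (l ≫ k).left := Over.w e.hom
      refine (Category.assoc _ _ _).trans ((congrArg (e.hom.left ≫ ·) h7).trans ?_)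
      refine (Category.assoc _ _ _).symm.trans ((congrArg (· ≫ l.left) h8).trans ?_)
      exact (pullback.lift_snd _ _ _).symm
  have h9 : e.hom.left ≫ pullback.fst (x.pull k).X.hom l.left ≫ r =
      resMap x (rfl : l ≫ k = l ≫ k) ≫ r :=
    (Category.assoc _ _ _).symm.trans (congrArg (· ≫ r) h6)
  exact Eq.mp (congrArg (fun ρ : (x.pull (l ≫ k)).X.left ⟶ PZ.{u} m =>
    NormEmb (x.pull (l ≫ k)).X (x.pull (l ≫ k)).c (x.pull (l ≫ k)).σ I ρ) h9) h5

/-- **FRLOC** -/
theorem frLocal_main (h14161 : K515.PolFinMain.Stmt14161.{u}) {g d n m : ℕ} (hm : m + 1 = 6 ^ g * d) :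
    Node.FrLocal.{u} g d n m := by
  intro S T x hT hx I h
  choose U hU r hr using h
  let f : ∀ t, (x.X.hom ⁻¹ᵁ U t).toScheme ⟶ PZ.{u} m := fun t =>
    (pullbackRestrictIsoRestrict x.X.hom (U t)).inv ≫ r t
  have hq : ∀ t, (pullbackRestrictIsoRestrict x.X.hom (U t)).inv ≫ pullback.fst x.X.hom (U t).ι =
    (x.X.hom ⁻¹ᵁ U t).ι := fun t => pullbackRestrictIsoRestrict_inv_fst _ _
  have hq2 : ∀ t, (pullbackRestrictIsoRestrict x.X.hom (U t)).inv ≫ pullback.snd x.X.hom (U t).ι ≫ (U t).ι =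
    (x.X.hom ⁻¹ᵁ U t).ι ≫ x.X.hom := fun t => by rw [← pullback.condition, ← Category.assoc, hq]
  have compat : ∀ s t, pullback.fst (x.X.hom ⁻¹ᵁ U s).ι (x.X.hom ⁻¹ᵁ U t).ι ≫ f s =
      pullback.snd (x.X.hom ⁻¹ᵁ U s).ι (x.X.hom ⁻¹ᵁ U t).ι ≫ f t := by
    intro s t
    let W := U s ⊓ U t
    have hs : resL T (inf_le_left : W ≤ U s) ≫ resH T (U s) = resH T W := by
      ext1
      exact T.left.homOfLE_ι inf_le_left
    have ht : resL T (inf_le_right : W ≤ U t) ≫ resH T (U t) = resH T W := by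
      ext1
      exact T.left.homOfLE_ι inf_le_right
    have hWn : LN S (resO T W) := by
      have : IsLocallyNoetherian T.left := hT
      exact inferInstanceAs (IsLocallyNoetherian (W : Scheme.{u}))
    have h1 : resMap x hs ≫ r s = resMap x ht ≫ r t :=
      uniq_main h14161 hm (resO T W) (x.pull (resH T W)) hWn (core_pull_ok (resH T W) hx) I _ _
        (normEmb_comp hs x (r s) (hr s)) (normEmb_comp ht x (r t) (hr t))
    let P := pullback (x.X.hom ⁻¹ᵁ U s).ι (x.X.hom ⁻¹ᵁ U t).ι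
    let a : P ⟶ x.X.left := pullback.fst _ _ ≫ (x.X.hom ⁻¹ᵁ U s).ι
    have ha : a = pullback.snd _ _ ≫ (x.X.hom ⁻¹ᵁ U t).ι := pullback.condition
    have hrange : Set.range (a ≫ x.X.hom) ⊆ Set.range W.ι := by
      rw [Scheme.Opens.range_ι]
      rintro _ ⟨z, rfl⟩
      refine ⟨?_, ?_⟩
      · exact ((pullback.fst (x.X.hom ⁻¹ᵁ U s).ι (x.X.hom ⁻¹ᵁ U t).ι) z).2
      · rw [ha]
        exact ((pullback.snd (x.X.hom ⁻¹ᵁ U s).ι (x.X.hom ⁻¹ᵁ U t).ι) z).2
    let b : P ⟶ W := IsOpenImmersion.lift W.ι (a ≫ x.X.hom) hrange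
    have hb : b ≫ W.ι = a ≫ x.X.hom := IsOpenImmersion.lift_fac _ _ _
    let p : P ⟶ pullback x.X.hom (resH T W).left := pullback.lift a b hb.symm
    have hpp : ∀ (v : T.left) (hle : W ≤ U v) (hv : resL T hle ≫ resH T (U v) = resH T W)
        (q : P ⟶ (x.X.hom ⁻¹ᵁ U v).toScheme), q ≫ (x.X.hom ⁻¹ᵁ U v).ι = a →
          p ≫ resMap x hv = q ≫ (pullbackRestrictIsoRestrict x.X.hom (U v)).inv := by
      intro v hle hv q hqa
      have e1 : (p ≫ resMap x hv) ≫ pullback.fst x.X.hom (U v).ι = a := by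
        rw [Category.assoc]
        exact (congrArg (p ≫ ·) (pullback.lift_fst _ _ _)).trans (pullback.lift_fst _ _ _)
      have e2 : (p ≫ resMap x hv) ≫ pullback.snd x.X.hom (U v).ι = b ≫ T.left.homOfLE hle := by
        rw [Category.assoc]
        refine (congrArg (p ≫ ·) (pullback.lift_snd _ _ _)).trans ?_
        refine (Category.assoc _ _ _).symm.trans ?_
        exact congrArg (· ≫ T.left.homOfLE hle) (pullback.lift_snd _ _ _)
      let c : P ⟶ pullback x.X.hom (U v).ι := q ≫ (pullbackRestrictIsoRestrict x.X.hom (U v)).inv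
      have e3 : c ≫ pullback.fst x.X.hom (U v).ι = a := by
        rw [Category.assoc, hq, hqa]
      have e4 : (c ≫ pullback.snd x.X.hom (U v).ι) ≫ (U v).ι = a ≫ x.X.hom := by
        rw [Category.assoc, Category.assoc, hq2, ← Category.assoc, hqa]
      have e5 : (b ≫ T.left.homOfLE hle) ≫ (U v).ι = a ≫ x.X.hom := by
        rw [Category.assoc, T.left.homOfLE_ι, hb]
      apply pullback.hom_ext
      · exact e1.trans e3.symm
      · exact e2.trans ((cancel_mono (U v).ι).1 (e5.trans e4.symm))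
    have hp1 := hpp s inf_le_left hs (pullback.fst _ _) rfl
    have hp2 := hpp t inf_le_right ht (pullback.snd _ _) ha.symm
    have h2 := congrArg (p ≫ ·) h1
    have h3 : (pullback.fst (x.X.hom ⁻¹ᵁ U s).ι (x.X.hom ⁻¹ᵁ U t).ι ≫
        (pullbackRestrictIsoRestrict x.X.hom (U s)).inv) ≫ r s =
        (pullback.snd (x.X.hom ⁻¹ᵁ U s).ι (x.X.hom ⁻¹ᵁ U t).ι ≫
        (pullbackRestrictIsoRestrict x.X.hom (U t)).inv) ≫ r t := by
      rw [← hp1, ← hp2]
      exact (Category.assoc _ _ _).trans (h2.trans (Category.assoc _ _ _).symm)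
    exact (Category.assoc _ _ _).symm.trans (h3.trans (Category.assoc _ _ _))
  obtain ⟨ρ, hρ⟩ := Groth.Agent.Sga3C.QuotGlue.exists_glue (fun t => x.X.hom ⁻¹ᵁ U t) (fun z => ⟨x.X.hom z, hU _⟩) f
    compat
  have hρ' : ∀ t, pullback.fst x.X.hom (U t).ι ≫ ρ = r t := by
    intro t
    have h1 : (pullbackRestrictIsoRestrict x.X.hom (U t)).inv ≫ pullback.fst x.X.hom (U t).ι ≫ ρ =
        (pullbackRestrictIsoRestrict x.X.hom (U t)).inv ≫ r t := by
      rw [← Category.assoc, hq]
      exact hρ t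
    exact (cancel_epi _).1 h1
  refine ⟨ρ, ?_, fun k => ?_⟩
  · obtain ⟨N, hN⟩ := exists_base_class x.X hx.ab (pull ρ (o1 m) * (x.c ^ 3)⁻¹) (fun t => ⟨U t, hU t, by
      obtain ⟨n, hn⟩ := (hr t).cls
      refine ⟨n, ?_⟩
      rw [map_mul, map_inv, map_pow, ← pull_comp]
      refine (congrArg (fun q => q * (pull (pullback.fst x.X.hom (U t).ι) x.c ^ 3)⁻¹)
        ((congrArg (fun q => pull q (o1 m)) (hρ' t)).trans hn)).trans ?_
      exact mul_inv_cancel_comm _ _⟩)
    exact ⟨N, by rw [← hN, mul_comm (x.c ^ 3), inv_mul_cancel_right]⟩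
  · obtain ⟨v, hv⟩ := exists_isStd T.left m k
    have h1 : (tp x.X x.σ (I k)).left ≫ ρ = v := by
      refine Scheme.hom_ext_of_forall _ _ fun t => ⟨U t, hU t, ?_⟩
      have h2 : tp (x.pull (resH T (U t))).X (x.pull (resH T (U t))).σ (I k) = secBc (U t).ι (tp x.X x.σ (I k)) :=
        tp_bc (U t).ι x.X x.σ (I k)
      have h3 := (hr t).pts k
      rw [h2, ← hρ' t] at h3
      have h4 : (secBc (U t).ι (tp x.X x.σ (I k))).left ≫ pullback.fst x.X.hom (U t).ι ≫ ρ =
          (U t).ι ≫ (tp x.X x.σ (I k)).left ≫ ρ := by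
        rw [← Category.assoc, secBc_left_fst, Category.assoc]
      have h5 : IsStd k ((U t).ι ≫ (tp x.X x.σ (I k)).left ≫ ρ) := by
        rw [← h4]
        exact h3
      exact isPt_unique h5 (isStd_comp hv (U t).ι)
    rw [h1]
    exact hv

end

end K272.Fr
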