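import Mathlib.RingTheory.Flat.LocallyFree
import Mathlib.RingTheory.Flat.Rank
import Mathlib.LinearAlgebra.Basis.VectorSpace
import Mathlib.LinearAlgebra.Matrix.ToLin
import Mathlib.LinearAlgebra.Matrix.Basis
import Mathlib.LinearAlgebra.Matrix.NonsingularInverse

/-!
# Linear algebra of evaluation maps
-/

set_option autoImplicit false
universe u v

open TensorProduct

namespace K272.Fr

variable {A : Type u} [CommRing A] {P : Type v} [AddCommGroup P] [Module A P]

/-- A surjection from a finite projective module of rank `n` to `A ^ n` is injective. -/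
theorem injective_of_rank [Module.Finite A P] [Module.Projective A P] {n : ℕ} (φ : P →ₗ[A] (Fin n → A))
    (hφ : Function.Surjective φ)
    (h : ∀ p : Ideal A, p.IsMaximal → ∃ (Ω : Type u) (_ : Field Ω) (_ : Algebra A Ω) (Q : Type v) (_ : AddCommGroup Q)
      (_ : Module Ω Q) (_ : Module A Q) (_ : IsScalarTower A Ω Q) (ψ : P →ₗ[A] Q),
        RingHom.ker (algebraMap A Ω) = p ∧ IsBaseChange Ω ψ ∧ Module.finrank Ω Q = n) : Function.Injective φ := by
  refine (Module.bijective_of_surjective_of_rankAtStalk_eq hφ fun m hm => ?_).1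
  obtain ⟨Ω, _, _, Q, _, _, _, _, ψ, hk, hψ, hr⟩ := h m hm
  have : Nontrivial A := ⟨⟨0, 1, fun h => hm.ne_top ((Ideal.eq_top_iff_one m).2 (h ▸ m.zero_mem))⟩⟩
  have hb : PrimeSpectrum.comap (algebraMap A Ω) ⊥ = ⟨m, hm.isPrime⟩ := by
    ext1
    exact hk
  have h1 := Module.rankAtStalk_isBaseChange hψ ⊥
  rw [hb] at h1
  have h2 : Module.rankAtStalk (R := A) (Fin n → A) ⟨m, hm.isPrime⟩ = n := by
    rw [Module.rankAtStalk_eq_finrank_of_free]
    simp
  refine h1.symm.trans (Eq.trans ?_ h2.symm)
  rw [Module.rankAtStalk_eq_finrank_of_free]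
  exact hr

/-- Nakayama for evaluation maps, by Cramer's rule. -/
theorem exists_lift {n : ℕ} (φ : P →ₗ[A] (Fin n → A)) {Ω : Type*} [Field Ω] [Algebra A Ω]
    (h : Submodule.span Ω (Set.range fun p : P => fun i => algebraMap A Ω (φ p i)) = ⊤) :
    ∃ (a : A) (s : Fin n → P), algebraMap A Ω a ≠ 0 ∧ ∀ i, φ (s i) = Pi.single i a := by
  let b := Module.Basis.ofSpan h.ge
  have hb : Set.range b ⊆ Set.range fun p : P => fun i => algebraMap A Ω (φ p i) := Module.Basis.ofSpan_subset h.ge
  have hfin : Finite ((linearIndepOn_empty Ω id).extend (Set.empty_subset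
      (Set.range fun p : P => fun i => algebraMap A Ω (φ p i)))) := Module.Finite.finite_basis b
  have := Fintype.ofFinite ((linearIndepOn_empty Ω id).extend (Set.empty_subset
      (Set.range fun p : P => fun i => algebraMap A Ω (φ p i))))
  have hcard := Module.finrank_eq_card_basis b
  rw [Module.finrank_fin_fun] at hcard
  let b' := b.reindex (Fintype.equivFinOfCardEq hcard.symm)
  have hb' : ∀ j, ∃ p : P, (fun i => algebraMap A Ω (φ p i)) = b' j := by
    intro j
    rw [Module.Basis.reindex_apply]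
    exact hb ⟨_, rfl⟩
  choose p hp using hb'
  let M : Matrix (Fin n) (Fin n) A := Matrix.of fun i j => φ (p j) i
  have hM : M.map (algebraMap A Ω) = (Pi.basisFun Ω (Fin n)).toMatrix b' := by
    ext i j
    rw [Matrix.map_apply, Module.Basis.toMatrix_apply, Pi.basisFun_repr, ← hp j]
    rfl
  refine ⟨M.det, fun i => ∑ j, M.adjugate j i • p j, ?_, fun i => ?_⟩
  · rw [RingHom.map_det]
    change (M.map (algebraMap A Ω)).det ≠ 0
    rw [hM]
    have h1 : IsUnit ((Pi.basisFun Ω (Fin n)).toMatrix b').det := by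
      rw [← Matrix.isUnit_iff_isUnit_det]
      have := (Pi.basisFun Ω (Fin n)).invertibleToMatrix b'
      exact isUnit_of_invertible _
    exact h1.ne_zero
  · rw [map_sum]
    ext l
    simp only [map_smul, Finset.sum_apply, Pi.smul_apply, smul_eq_mul]
    have h1 := congrFun (congrFun (Matrix.mul_adjugate M) l) i
    rw [Matrix.mul_apply] at h1
    have h2 : ∑ j, M.adjugate j i * φ (p j) l = ∑ j, M l j * M.adjugate j i :=
      Finset.sum_congr rfl fun j _ => mul_comm _ _
    rw [h2, h1, Matrix.smul_apply, Matrix.one_apply, Pi.single_apply]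
    by_cases hli : l = i
    · rw [if_pos hli, if_pos hli, smul_eq_mul, mul_one]
    · rw [if_neg hli, if_neg hli, smul_zero]

end K272.Fr
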