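import Groth.Agent.AgPol.K117.Nodes
import Groth.Agent.AbDual.K732.BC

/-!
# Points of projective space and generators

* `isPt_iff` : `IsPt (x ≫ r) v` for `r` given by the sections `s` of `M`: there is a generator `e` of `x^* M` with
  `x^* s i = v i • e`;
* `IsPt.unique`, `IsPt.comp`, `exists_isPt`;
* `secBc_mul`, `secBc_pow`, `tp_bc` : base change of torsion points.
-/

set_option autoImplicit false
universe u

open CategoryTheory Limits MonoidalCategory CartesianMonoidalCategory AlgebraicGeometry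
open scoped MonObj

namespace K272.Fr

open K117.Ag Groth.Agent.Fdesc.LocGen K390.PnSec Groth.Agent.Ega2.H295.PnCoord
open Groth.Agent.Grpsch.PicGrp hiding ev

noncomputable section

variable {X Y T : Scheme.{u}} {m : ℕ}

/-- The isomorphism from the structure module given by a generator. -/
theorem exists_iso_of_isGen {M : X.Modules} {e : Γ(M, ⊤)} (he : IsGen e) :
    ∃ τ : M ≅ Coh.structureModule X, ∀ (a : Γ(X, ⊤)), τ.hom.app ⊤ (a • e) = ofFun a := by
  have h1 : IsIso (homOf e) := (isIso_iff_isGen _).mpr (by simpa using he)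
  refine ⟨(asIso (homOf e)).symm, fun a => ?_⟩
  have h2 : (homOf e).app ⊤ (ofFun a) = a • e := by
    rw [homOf_app, res_refl]
  have h3 : homOf e ≫ (asIso (homOf e)).inv = 𝟙 _ := (asIso (homOf e)).hom_inv_id
  rw [← h2]
  exact congr(($(h3).app ⊤) (ofFun a))

theorem isPt_iff_of_givenBy {r : T ⟶ PZ.{u} m} {M : T.Modules} {s : Fin (m + 1) → Γ(M, ⊤)}
    (h : GivenBy r M s) (v : Fin (m + 1) → Γ(T, ⊤)) :
    IsPt r v ↔ ∃ e : Γ(M, ⊤), IsGen e ∧ ∀ i, s i = v i • e := by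
  constructor
  · intro hv
    obtain ⟨τ, hτ⟩ := hv.exists_iso h
    refine ⟨τ.hom.app ⊤ (one ⊤), (isGen_one ⊤).app τ.hom, fun i => ?_⟩
    have h1 : (ofFun (v i) : Γ(Coh.structureModule T, ⊤)) = v i • one ⊤ := ofFun_eq_smul _
    rw [← hτ i]
    refine (congrArg (τ.hom.app ⊤) h1).trans ?_
    exact Scheme.Modules.Hom.app_smul _ _ _
  · rintro ⟨e, he, hs⟩
    obtain ⟨τ, hτ⟩ := exists_iso_of_isGen he
    have h1 := h.of_iso τ
    have h2 : (fun i => τ.hom.app ⊤ (s i)) = fun i => (v i : Γ(Coh.structureModule T, ⊤)) := by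
      funext i
      rw [hs i]
      exact hτ (v i)
    rw [h2] at h1
    exact h1

/-- The frame condition in terms of sections. -/
theorem isPt_comp_iff {r : X ⟶ PZ.{u} m} {M : X.Modules} {s : Fin (m + 1) → Γ(M, ⊤)}
    (h : GivenBy r M s) (x : T ⟶ X) (v : Fin (m + 1) → Γ(T, ⊤)) :
    IsPt (x ≫ r) v ↔ ∃ e : Γ((Scheme.Modules.pullback x).obj M, ⊤), IsGen e ∧ ∀ i, pullTop x (s i) = v i • e :=
  isPt_iff_of_givenBy (h.comp x) v

theorem isPt_unique {r r' : T ⟶ PZ.{u} m} {v : Fin (m + 1) → Γ(T, ⊤)} (h : IsPt r v) (h' : IsPt r' v) : r = r' :=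
  GivenBy.unique' h h'

theorem isPt_comp {r : X ⟶ PZ.{u} m} {v : Fin (m + 1) → Γ(X, ⊤)} (h : IsPt r v) (g : T ⟶ X) :
    IsPt (g ≫ r) (fun i => g.appTop (v i)) := by
  rw [isPt_comp_iff h g]
  refine ⟨pullTop g (one ⊤), (isGen_one ⊤).pullTop g, fun i => ?_⟩
  have h1 : (ofFun (v i) : Γ(Coh.structureModule X, ⊤)) = v i • one ⊤ := ofFun_eq_smul _
  refine (congrArg (pullTop g) h1).trans ?_
  exact pullSec_smul g _ _

theorem map_stdv {R R' : Type*} [CommRing R] [CommRing R'] (φ : R →+* R') (m : ℕ) (k : Fin (m + 2)) (i : Fin (m + 1)) :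
    φ (stdv R m k i) = stdv R' m k i := by
  unfold stdv
  split_ifs with h
  · by_cases hi : i = ⟨k, h⟩
    · subst hi
      simp
    · rw [Pi.single_eq_of_ne hi, Pi.single_eq_of_ne hi, map_zero]
  · simp

theorem isStd_comp {r : X ⟶ PZ.{u} m} {k : Fin (m + 2)} (h : IsStd k r) (g : T ⟶ X) : IsStd k (g ≫ r) := by
  have h1 := isPt_comp h g
  have h2 : (fun i => g.appTop (stdv Γ(X, ⊤) m k i)) = stdv Γ(T, ⊤) m k := by
    funext i
    exact map_stdv g.appTop.hom m k i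
  rw [h2] at h1
  exact h1

theorem exists_isUnit_stdv (R : Type*) [CommRing R] (m : ℕ) (k : Fin (m + 2)) : ∃ i, stdv R m k i = 1 := by
  unfold stdv
  split_ifs with h
  · exact ⟨⟨k, h⟩, Pi.single_eq_same _ _⟩
  · exact ⟨0, rfl⟩

theorem exists_isStd (T : Scheme.{u}) (m : ℕ) (k : Fin (m + 2)) : ∃ r : T ⟶ PZ.{u} m, IsStd k r := by
  refine exists_givenBy' (M := Coh.structureModule T) (fun i => ofFun (stdv Γ(T, ⊤) m k i)) ?_
  obtain ⟨i, hi⟩ := exists_isUnit_stdv Γ(T, ⊤) m k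
  rw [eq_top_iff]
  refine le_trans ?_ (le_iSup _ i)
  rw [le_genLocus_iff, sec_homOf, hi]
  exact (isGen_one ⊤).res _

end

end K272.Fr
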