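import Groth.Agent.AgPol.K272.EvAlg
import Groth.Agent.AgPol.K272.Pt
import Groth.Agent.AbSch.K449.FibVan
import Groth.Agent.ShStab.K849.HomBCF
import Groth.Agent.Models2.HHFiber
import Groth.Agent.CurvesB.HZero
import Groth.Agent.Models2.FibreFreeSch

/-!
# Evaluation of sections of an invertible module at sections of the structure morphism, over an affine base

* `FibC f L N` : on the geometric fibres `H^p(X_t, L_t) = 0` for `p ≥ 1` and `h^0(X_t, L_t) = N`;
* `evL` : evaluation at a section, `A`-linear;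
* `eq_zero_of_ev` : injectivity of the evaluation map at `N` sections;
* `exists_ev_lift` : lifting of a dual basis from a geometric fibre.
-/

set_option autoImplicit false
set_option backward.isDefEq.respectTransparency false
universe u

open CategoryTheory CategoryTheory.Limits AlgebraicGeometry Opposite TopologicalSpace
open scoped TensorProduct

namespace K272.Fr

open Groth.Agent Groth.Agent.Fdesc.LocGen K792.SecBC

noncomputable section

section pull

variable {W X Y Z : Scheme.{u}}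

theorem pullTop_congr {f g : X ⟶ Y} (h : f = g) {L : Y.Modules} (s : Γ(L, ⊤)) :
    ((Scheme.Modules.pullbackCongr h).hom.app L).app ⊤ (pullTop f s) = pullTop g s := by
  subst h
  have : (Scheme.Modules.pullbackCongr (rfl : f = f)).hom.app L = 𝟙 _ := by
    simp [Scheme.Modules.pullbackCongr]
  rw [this]
  rfl

theorem exists_theta {a : W ⟶ X} {b : X ⟶ Z} {a' : W ⟶ Y} {b' : Y ⟶ Z} (w : a ≫ b = a' ≫ b') (L : Z.Modules) :
    ∃ θ : (Scheme.Modules.pullback a).obj ((Scheme.Modules.pullback b).obj L) ≅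
      (Scheme.Modules.pullback a').obj ((Scheme.Modules.pullback b').obj L),
      ∀ s : Γ(L, ⊤), θ.hom.app ⊤ (pullTop a (pullTop b s)) = pullTop a' (pullTop b' s) := by
  refine ⟨(Scheme.Modules.pullbackComp a b).app L ≪≫ (Scheme.Modules.pullbackCongr w).app L ≪≫
    (Scheme.Modules.pullbackComp a' b').symm.app L, fun s => ?_⟩
  have h1 : ((Scheme.Modules.pullbackComp a b).hom.app L).app ⊤ (pullTop a (pullTop b s)) =
      pullTop (a ≫ b) s := pullSec_comp' a b (U := ⊤) s
  have h2 : ((Scheme.Modules.pullbackComp a' b').inv.app L).app ⊤ (pullTop (a' ≫ b') s) =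
      pullTop a' (pullTop b' s) := pullSec_comp a' b' (U := ⊤) s
  refine Eq.trans ?_ h2
  refine congrArg (((Scheme.Modules.pullbackComp a' b').inv.app L).app ⊤) ?_
  refine Eq.trans ?_ (pullTop_congr w s)
  exact congrArg (((Scheme.Modules.pullbackCongr w).hom.app L).app ⊤) h1

end pull

section ev

variable {A : Type u} [CommRing A] {X : Scheme.{u}} [X.Over (Spec (CommRingCat.of A))] {L : X.Modules}

theorem appTop_sc (x : Spec (CommRingCat.of A) ⟶ X) (hx : x ≫ (X ↘ Spec (CommRingCat.of A)) = 𝟙 _) (a : A) :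
    x.appTop (sc A X ⊤ a) = (Scheme.ΓSpecIso (CommRingCat.of A)).inv a := by
  have h0 : sc A X ⊤ a = (X ↘ Spec (CommRingCat.of A)).appTop ((Scheme.ΓSpecIso (CommRingCat.of A)).inv a) := by
    rw [sc_eq_appLE, Scheme.Hom.appTop, Scheme.Hom.app_eq_appLE]
    rfl
  rw [h0, ← CommRingCat.comp_apply, ← Scheme.Hom.comp_appTop, hx]
  rfl

/-- Evaluation at a section. -/
def evL (x : Spec (CommRingCat.of A) ⟶ X) (hx : x ≫ (X ↘ Spec (CommRingCat.of A)) = 𝟙 _)
    {e : Γ((Scheme.Modules.pullback x).obj L, ⊤)} (he : IsGen e) : SecM A L ⊤ →ₗ[A] A where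
  toFun s := (Scheme.ΓSpecIso (CommRingCat.of A)).hom
    ((Grpsch.PicGrp.genEquiv he ⊤ le_rfl).symm (pullTop x (show Γ(L, ⊤) from s)))
  map_add' s t := by
    have h1 : pullTop x (show Γ(L, ⊤) from s + t) =
      pullTop x (show Γ(L, ⊤) from s) + pullTop x (show Γ(L, ⊤) from t) := pullSec_add x _ _
    rw [h1, map_add, map_add]
  map_smul' a s := by
    have h1 : pullTop x (show Γ(L, ⊤) from a • s) =
        (Scheme.ΓSpecIso (CommRingCat.of A)).inv a • pullTop x (show Γ(L, ⊤) from s) := by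
      refine (pullSec_smul x (sc A X ⊤ a) (show Γ(L, ⊤) from s)).trans ?_
      rw [← appTop_sc x hx a]
      rfl
    rw [h1, map_smul, smul_eq_mul, map_mul]
    congr 1
    exact (Scheme.ΓSpecIso (CommRingCat.of A)).commRingCatIsoToRingEquiv.apply_symm_apply a

theorem evL_spec (x : Spec (CommRingCat.of A) ⟶ X) (hx : x ≫ (X ↘ Spec (CommRingCat.of A)) = 𝟙 _)
    {e : Γ((Scheme.Modules.pullback x).obj L, ⊤)} (he : IsGen e) (s : Γ(L, ⊤)) :
    pullTop x s = (Scheme.ΓSpecIso (CommRingCat.of A)).inv (evL x hx he s) • e := by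
  have h1 : (Scheme.ΓSpecIso (CommRingCat.of A)).inv (evL x hx he s) =
      (Grpsch.PicGrp.genEquiv he ⊤ le_rfl).symm (pullTop x s) :=
    (Scheme.ΓSpecIso (CommRingCat.of A)).commRingCatIsoToRingEquiv.symm_apply_apply _
  rw [h1]
  have h2 := (Grpsch.PicGrp.genEquiv he ⊤ le_rfl).apply_symm_apply (pullTop x s)
  rw [Grpsch.PicGrp.genEquiv_apply, res_refl] at h2
  exact h2.symm

theorem inv_injective (A : Type u) [CommRing A] :
    Function.Injective (Scheme.ΓSpecIso (CommRingCat.of A)).inv :=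
  (Scheme.ΓSpecIso (CommRingCat.of A)).commRingCatIsoToRingEquiv.symm.injective

theorem evL_eq (x : Spec (CommRingCat.of A) ⟶ X) (hx : x ≫ (X ↘ Spec (CommRingCat.of A)) = 𝟙 _)
    {e : Γ((Scheme.Modules.pullback x).obj L, ⊤)} (he : IsGen e) (s : Γ(L, ⊤)) (a : A)
    (h : pullTop x s = (Scheme.ΓSpecIso (CommRingCat.of A)).inv a • e) : evL x hx he s = a := by
  rw [evL_spec x hx he s] at h
  exact inv_injective A (he.ext h)

end ev

/-- The cohomology of the geometric fibres. -/
def FibC {X T : Scheme.{u}} (f : X ⟶ T) (L : X.Modules) (N : ℕ) : Prop :=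
  ∀ (Ω : Type u) [Field Ω] [IsAlgClosed Ω] (t : Spec (CommRingCat.of Ω) ⟶ T),
    letI : (pullback f t).Over (Spec (CommRingCat.of Ω)) := ⟨pullback.snd f t⟩
    (∀ p : ℕ, 1 ≤ p → Subsingleton (Coh.HH (pullback f t)
      ((Scheme.Modules.pullback (pullback.fst f t)).obj L) p)) ∧
      Module.finrank Ω (Coh.HH (pullback f t) ((Scheme.Modules.pullback (pullback.fst f t)).obj L) 0) = N

section base

variable {A : Type u} [CommRing A] {X : Scheme.{u}} [X.Over (Spec (CommRingCat.of A))] {L : X.Modules}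
  [IsProper (X ↘ Spec (CommRingCat.of A))] [Flat (X ↘ Spec (CommRingCat.of A))]
  [LocallyOfFinitePresentation (X ↘ Spec (CommRingCat.of A))] {N : ℕ}

/-- `H^0` and sections. -/
def secEquiv (A : Type u) [CommRing A] {X : Scheme.{u}} [X.Over (Spec (CommRingCat.of A))] (L : X.Modules) :
    Coh.HH X L 0 ≃ₗ[A] SecM A L ⊤ where
  toFun := CurvesB.HZero.equivAdd L
  invFun := (CurvesB.HZero.equivAdd L).symm
  left_inv := (CurvesB.HZero.equivAdd L).left_inv
  right_inv := (CurvesB.HZero.equivAdd L).right_inv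
  map_add' := map_add _
  map_smul' a x := by
    refine (CurvesB.HZero.equivAdd_smul_over L a x).trans ?_
    have h : sc A X ⊤ a = CurvesB.HZero.gl A X a := by
      rw [sc_eq_appLE]
      change _ = (X ↘ Spec (CommRingCat.of A)).appTop ((Scheme.ΓSpecIso (CommRingCat.of A)).inv a)
      rw [Scheme.Hom.appTop, Scheme.Hom.app_eq_appLE]
      rfl
    exact (congrArg (fun c : Γ(X, ⊤) => (c • CurvesB.HZero.equivAdd L x : Γ(L, ⊤))) h).symm

theorem van (hL : PicF.IsInvertible L) (h : FibC (X ↘ Spec (CommRingCat.of A)) L N) :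
    (∀ p : ℕ, 1 ≤ p → Subsingleton (Coh.HH X L p)) ∧ Module.Finite A (SecM A L ⊤) ∧
      Module.Projective A (SecM A L ⊤) := by
  have hq : Coh.IsQCoh L := Ega2.QCohLocal.isQCoh_of_isInvertible hL
  obtain ⟨h1, h2, h3⟩ := K449.FibVan.affine A X L hL (fun m hm Y _ j hj p hp => by
    let _ : Field (A ⧸ m) := Ideal.Quotient.field m
    let Ω := AlgebraicClosure (A ⧸ m)
    let τ : Spec (CommRingCat.of Ω) ⟶ Spec (CommRingCat.of (A ⧸ m)) :=
      Spec.map (CommRingCat.ofHom (algebraMap (A ⧸ m) Ω))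
    let t : Spec (CommRingCat.of Ω) ⟶ Spec (CommRingCat.of A) := τ ≫ Spec.map (CommRingCat.ofHom (Ideal.Quotient.mk m))
    have hg := (h Ω t).1 p hp
    let q : pullback (X ↘ Spec (CommRingCat.of A)) t ⟶ Y := hj.lift (pullback.fst _ _) (pullback.snd _ _ ≫ τ)
      (by rw [Category.assoc]; exact pullback.condition)
    have hq1 : q ≫ j = pullback.fst _ _ := hj.lift_fst _ _ _
    have hq2 : q ≫ (Y ↘ Spec (CommRingCat.of (A ⧸ m))) = pullback.snd _ _ ≫ τ := hj.lift_snd _ _ _
    have hpb : IsPullback q (pullback.snd (X ↘ Spec (CommRingCat.of A)) t) (Y ↘ Spec (CommRingCat.of (A ⧸ m))) τ := by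
      refine IsPullback.of_right ?_ hq2 hj
      rw [hq1]
      exact IsPullback.of_hasPullback _ _
    have i1 : IsProper (Y ↘ Spec (CommRingCat.of (A ⧸ m))) := MorphismProperty.of_isPullback (P := @IsProper) hj inferInstance
    rw [← Models2.HHFiber.field_ext (algebraMap (A ⧸ m) Ω) (Y ↘ Spec (CommRingCat.of (A ⧸ m)))
      (pullback.snd (X ↘ Spec (CommRingCat.of A)) t) q hpb ((Scheme.Modules.pullback j).obj L)
      (FormalA.PullbackQC.isQCoh_pullback j _ hq) ((Scheme.Modules.pullback (pullback.fst _ _)).obj L)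
      ((Scheme.Modules.pullbackComp q j).app L ≪≫ (Scheme.Modules.pullbackCongr hq1).app L) p]
    exact hg)
  exact ⟨h1, Module.Finite.equiv (secEquiv A L), Module.Projective.of_equiv (secEquiv A L)⟩

end base

section geom

variable {A : Type u} [CommRing A] {X : Scheme.{u}} [X.Over (Spec (CommRingCat.of A))] {L : X.Modules}
  {Ω : Type u} [Field Ω] [Algebra A Ω] {X' : Scheme.{u}} [X'.Over (Spec (CommRingCat.of Ω))] {π : X' ⟶ X}

/-- Restriction to the fibre is a base change. -/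
theorem isBC [IsProper (X ↘ Spec (CommRingCat.of A))] [Flat (X ↘ Spec (CommRingCat.of A))] (hL : PicF.IsInvertible L)
    (hv : ∀ p : ℕ, 1 ≤ p → Subsingleton (Coh.HH X L p))
    (sq : IsPullback π (X' ↘ Spec (CommRingCat.of Ω)) (X ↘ Spec (CommRingCat.of A))
      (Spec.map (CommRingCat.ofHom (algebraMap A Ω)))) :
    letI : Module A (SecM Ω ((Scheme.Modules.pullback π).obj L) (π ⁻¹ᵁ ⊤)) := modA _ _
    haveI := isScalarTower_modA (A := A) (B := Ω) ((Scheme.Modules.pullback π).obj L) (π ⁻¹ᵁ ⊤)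
    IsBaseChange Ω (psL π sq L ⊤) :=
  K849.HomBCF.isBaseChange_sec π sq L (Ega2.QCohLocal.isQCoh_of_isInvertible hL)
    (Models2.FibreFreeSch.isFlatOver_of_isInvertible _ hL) (fun p => hv (p + 1) (by omega))

/-- Injectivity of the evaluation map. -/
theorem injective_ev [IsProper (X ↘ Spec (CommRingCat.of A))] [Flat (X ↘ Spec (CommRingCat.of A))]
    [LocallyOfFinitePresentation (X ↘ Spec (CommRingCat.of A))] (hL : PicF.IsInvertible L) {N : ℕ}
    (h : FibC (X ↘ Spec (CommRingCat.of A)) L N) {x : Fin N → (Spec (CommRingCat.of A) ⟶ X)}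
    (hx : ∀ k, x k ≫ (X ↘ Spec (CommRingCat.of A)) = 𝟙 _) {e : ∀ k, Γ((Scheme.Modules.pullback (x k)).obj L, ⊤)}
    (he : ∀ k, IsGen (e k))
    (hs : Function.Surjective (LinearMap.pi fun k => evL (x k) (hx k) (he k))) :
    Function.Injective (LinearMap.pi fun k => evL (x k) (hx k) (he k)) := by
  obtain ⟨h1, h2, h3⟩ := van hL h
  refine injective_of_rank _ hs fun m hm => ?_
  let _ : Field (A ⧸ m) := Ideal.Quotient.field m
  let Ω := AlgebraicClosure (A ⧸ m)
  let iA : Algebra A Ω := ((algebraMap (A ⧸ m) Ω).comp (Ideal.Quotient.mk m)).toAlgebra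
  let t : Spec (CommRingCat.of Ω) ⟶ Spec (CommRingCat.of A) := Spec.map (CommRingCat.ofHom (algebraMap A Ω))
  let iO : (pullback (X ↘ Spec (CommRingCat.of A)) t).Over (Spec (CommRingCat.of Ω)) := ⟨pullback.snd _ _⟩
  let π := pullback.fst (X ↘ Spec (CommRingCat.of A)) t
  have sq : IsPullback π (pullback (X ↘ Spec (CommRingCat.of A)) t ↘ Spec (CommRingCat.of Ω)) (X ↘ Spec (CommRingCat.of A)) t :=
    IsPullback.of_hasPullback _ _
  let i1 : Module A (SecM Ω ((Scheme.Modules.pullback π).obj L) (π ⁻¹ᵁ ⊤)) := modA _ _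
  have i2 := isScalarTower_modA (A := A) (B := Ω) ((Scheme.Modules.pullback π).obj L) (π ⁻¹ᵁ ⊤)
  refine ⟨Ω, inferInstance, iA, SecM Ω ((Scheme.Modules.pullback π).obj L) (π ⁻¹ᵁ ⊤), inferInstance, inferInstance, i1, i2,
    psL π sq L ⊤, ?_, isBC hL h1 sq, ?_⟩
  · ext a
    rw [RingHom.mem_ker]
    change algebraMap (A ⧸ m) Ω (Ideal.Quotient.mk m a) = 0 ↔ _
    rw [map_eq_zero_iff _ (algebraMap (A ⧸ m) Ω).injective, Ideal.Quotient.eq_zero_iff_mem]
  · exact (secEquiv Ω ((Scheme.Modules.pullback π).obj L)).finrank_eq.symm.trans (h Ω t).2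

theorem surjective_pi {N : ℕ} {x : Fin N → (Spec (CommRingCat.of A) ⟶ X)}
    (hx : ∀ k, x k ≫ (X ↘ Spec (CommRingCat.of A)) = 𝟙 _) {e : ∀ k, Γ((Scheme.Modules.pullback (x k)).obj L, ⊤)}
    (he : ∀ k, IsGen (e k)) (s : Fin N → Γ(L, ⊤))
    (hs : ∀ i k, pullTop (x k) (s i) = (Pi.single (M := fun _ : Fin N => Γ(Spec (CommRingCat.of A), ⊤)) i 1 k) • e k) :
    Function.Surjective (LinearMap.pi fun k => evL (x k) (hx k) (he k)) := by
  intro v
  have hδ : ∀ i k, evL (x k) (hx k) (he k) (s i) = Pi.single (M := fun _ : Fin N => A) i 1 k := by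
    intro i k
    apply evL_eq
    rw [hs i k]
    congr 1
    by_cases hik : k = i
    · subst hik
      rw [Pi.single_eq_same, Pi.single_eq_same, map_one]
    · rw [Pi.single_eq_of_ne hik, Pi.single_eq_of_ne hik, map_zero]
  refine ⟨∑ i, v i • (show SecM A L ⊤ from s i), ?_⟩
  ext k
  rw [LinearMap.pi_apply, map_sum, Finset.sum_eq_single k]
  · rw [map_smul]
    refine (congrArg (v k • ·) (hδ k k)).trans ?_
    rw [Pi.single_eq_same, smul_eq_mul, mul_one]
  · intro i _ hik
    rw [map_smul]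
    refine (congrArg (v i • ·) (hδ i k)).trans ?_
    rw [Pi.single_eq_of_ne (Ne.symm hik), smul_zero]
  · intro h
    exact absurd (Finset.mem_univ k) h

/-- A section vanishing at the points of the frame is zero. -/
theorem ext_ev [IsProper (X ↘ Spec (CommRingCat.of A))] [Flat (X ↘ Spec (CommRingCat.of A))]
    [LocallyOfFinitePresentation (X ↘ Spec (CommRingCat.of A))] (hL : PicF.IsInvertible L) {N : ℕ}
    (h : FibC (X ↘ Spec (CommRingCat.of A)) L N) {x : Fin N → (Spec (CommRingCat.of A) ⟶ X)}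
    (hx : ∀ k, x k ≫ (X ↘ Spec (CommRingCat.of A)) = 𝟙 _) {e : ∀ k, Γ((Scheme.Modules.pullback (x k)).obj L, ⊤)}
    (he : ∀ k, IsGen (e k)) (s : Fin N → Γ(L, ⊤))
    (hs : ∀ i k, pullTop (x k) (s i) = (Pi.single (M := fun _ : Fin N => Γ(Spec (CommRingCat.of A), ⊤)) i 1 k) • e k)
    {a b : Γ(L, ⊤)} (hab : ∀ k, pullTop (x k) a = pullTop (x k) b) : a = b := by
  refine injective_ev hL h hx he (surjective_pi hx he s hs) ?_
  ext k
  rw [LinearMap.pi_apply, LinearMap.pi_apply]
  apply evL_eq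
  rw [hab k, evL_spec (x k) (hx k) (he k) b]

/-- Compatible generators on the fibre. -/
theorem exists_gen {x : Spec (CommRingCat.of A) ⟶ X} (hx : x ≫ (X ↘ Spec (CommRingCat.of A)) = 𝟙 _)
    {e : Γ((Scheme.Modules.pullback x).obj L, ⊤)} (he : IsGen e) {x' : Spec (CommRingCat.of Ω) ⟶ X'}
    (hx' : x' ≫ (X' ↘ Spec (CommRingCat.of Ω)) = 𝟙 _)
    (w : x' ≫ π = Spec.map (CommRingCat.ofHom (algebraMap A Ω)) ≫ x) :
    ∃ (e' : Γ((Scheme.Modules.pullback x').obj ((Scheme.Modules.pullback π).obj L), ⊤)) (he' : IsGen e'),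
      ∀ s : Γ(L, ⊤), evL x' hx' he' (pullTop π s) = algebraMap A Ω (evL x hx he s) := by
  obtain ⟨θ, hθ⟩ := exists_theta w.symm L
  refine ⟨θ.hom.app ⊤ (pullTop (Spec.map (CommRingCat.ofHom (algebraMap A Ω))) e), (he.pullTop _).app θ.hom, fun s => ?_⟩
  apply evL_eq
  rw [← hθ s, evL_spec x hx he s]
  have h1 : pullTop (Spec.map (CommRingCat.ofHom (algebraMap A Ω)))
      ((Scheme.ΓSpecIso (CommRingCat.of A)).inv (evL x hx he s) • e) =
      (Spec.map (CommRingCat.ofHom (algebraMap A Ω))).appTop ((Scheme.ΓSpecIso (CommRingCat.of A)).inv (evL x hx he s)) •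
        pullTop (Spec.map (CommRingCat.ofHom (algebraMap A Ω))) e := pullSec_smul _ _ _
  rw [h1]
  refine (Scheme.Modules.Hom.app_smul θ.hom _ _).trans ?_
  have h2 : (Spec.map (CommRingCat.ofHom (algebraMap A Ω))).appTop
      ((Scheme.ΓSpecIso (CommRingCat.of A)).inv (evL x hx he s)) =
      (Scheme.ΓSpecIso (CommRingCat.of Ω)).inv (algebraMap A Ω (evL x hx he s)) :=
    congr($((Scheme.ΓSpecIso_inv_naturality (CommRingCat.ofHom (algebraMap A Ω))).symm) (evL x hx he s))
  rw [h2]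

/-- **Lifting of a dual basis from a geometric fibre.** -/
theorem exists_ev_lift [IsProper (X ↘ Spec (CommRingCat.of A))] [Flat (X ↘ Spec (CommRingCat.of A))]
    [LocallyOfFinitePresentation (X ↘ Spec (CommRingCat.of A))] (hL : PicF.IsInvertible L) {N : ℕ}
    (h : FibC (X ↘ Spec (CommRingCat.of A)) L N) {x : Fin N → (Spec (CommRingCat.of A) ⟶ X)}
    (hx : ∀ k, x k ≫ (X ↘ Spec (CommRingCat.of A)) = 𝟙 _) {e : ∀ k, Γ((Scheme.Modules.pullback (x k)).obj L, ⊤)}
    (he : ∀ k, IsGen (e k))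
    (sq : IsPullback π (X' ↘ Spec (CommRingCat.of Ω)) (X ↘ Spec (CommRingCat.of A))
      (Spec.map (CommRingCat.ofHom (algebraMap A Ω))))
    (hN : Module.finrank Ω (Coh.HH X' ((Scheme.Modules.pullback π).obj L) 0) = N)
    {x' : Fin N → (Spec (CommRingCat.of Ω) ⟶ X')} (hx' : ∀ k, x' k ≫ (X' ↘ Spec (CommRingCat.of Ω)) = 𝟙 _)
    (w : ∀ k, x' k ≫ π = Spec.map (CommRingCat.ofHom (algebraMap A Ω)) ≫ x k)
    (s' : Fin N → Γ((Scheme.Modules.pullback π).obj L, ⊤))
    (e'' : ∀ k, Γ((Scheme.Modules.pullback (x' k)).obj ((Scheme.Modules.pullback π).obj L), ⊤)) (he'' : ∀ k, IsGen (e'' k))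
    (hs' : ∀ i k, pullTop (x' k) (s' i) =
      (Pi.single (M := fun _ : Fin N => Γ(Spec (CommRingCat.of Ω), ⊤)) i 1 k) • e'' k) :
    ∃ (a : A) (s : Fin N → Γ(L, ⊤)) (c : Fin N → Ω), algebraMap A Ω a ≠ 0 ∧ (∀ i, c i ≠ 0) ∧
      (∀ i k, pullTop (x k) (s i) = (Scheme.ΓSpecIso (CommRingCat.of A)).inv (Pi.single (M := fun _ : Fin N => A) i a k) • e k) ∧
        ∀ i, pullTop π (s i) = (sc Ω X' ⊤ (c i) • s' i : Γ((Scheme.Modules.pullback π).obj L, ⊤)) := by
  obtain ⟨h1, h2, h3⟩ := van hL h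
  let i1 : Module A (SecM Ω ((Scheme.Modules.pullback π).obj L) (π ⁻¹ᵁ ⊤)) := modA _ _
  have i2 := isScalarTower_modA (A := A) (B := Ω) ((Scheme.Modules.pullback π).obj L) (π ⁻¹ᵁ ⊤)
  have hbc := isBC (Ω := Ω) (X' := X') hL h1 sq
  choose e' he' hev using fun k => exists_gen (L := L) (hx k) (he k) (hx' k) (w k)
  let Q := SecM Ω ((Scheme.Modules.pullback π).obj L) ⊤
  let E' : Q →ₗ[Ω] (Fin N → Ω) := LinearMap.pi fun k => evL (x' k) (hx' k) (he' k)
  -- the values of the `s'`
  have hc : ∀ k, ∃ c : Ω, c ≠ 0 ∧ e'' k = (Scheme.ΓSpecIso (CommRingCat.of Ω)).inv c • e' k := by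
    intro k
    obtain ⟨γ, hγ, hγ'⟩ := (he' k).exists_unit (he'' k)
    refine ⟨(Scheme.ΓSpecIso (CommRingCat.of Ω)).hom γ, ?_, ?_⟩
    · exact (hγ.map (Scheme.ΓSpecIso (CommRingCat.of Ω)).hom.hom).ne_zero
    · rw [hγ']
      congr 1
      exact ((Scheme.ΓSpecIso (CommRingCat.of Ω)).commRingCatIsoToRingEquiv.symm_apply_apply γ).symm
  choose c hc0 hc1 using hc
  have hE : ∀ i, E' (show Q from s' i) = Pi.single i (c i) := by
    intro i
    ext k
    change evL (x' k) (hx' k) (he' k) (s' i) = _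
    apply evL_eq
    rw [hs' i k, hc1 k]
    by_cases hik : k = i
    · subst hik
      rw [Pi.single_eq_same, Pi.single_eq_same, one_smul]
    · rw [Pi.single_eq_of_ne hik, Pi.single_eq_of_ne hik, zero_smul, map_zero, zero_smul]
  have hv : ∀ v : Fin N → Ω, v = ∑ i, (v i * (c i)⁻¹) • E' (show Q from s' i) := by
    intro v
    ext k
    rw [Finset.sum_apply, Finset.sum_eq_single k]
    · rw [Pi.smul_apply, hE, Pi.single_eq_same, smul_eq_mul, mul_assoc, inv_mul_cancel₀ (hc0 k), mul_one]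
    · intro i _ hik
      rw [Pi.smul_apply, hE, Pi.single_eq_of_ne (Ne.symm hik), smul_zero]
    · intro h
      exact absurd (Finset.mem_univ k) h
  have hsurj : Function.Surjective E' := fun v => ⟨∑ i, (v i * (c i)⁻¹) • (show Q from s' i), by
    rw [map_sum]
    refine Eq.trans ?_ (hv v).symm
    exact Finset.sum_congr rfl fun i _ => map_smul E' _ _⟩
  have hfin : Module.Finite Ω Q := Module.Finite.equiv hbc.equiv
  have hinj : Function.Injective E' := by
    refine (LinearMap.injective_iff_surjective_of_finrank_eq_finrank ?_).2 hsurj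
    rw [Module.finrank_fin_fun]
    exact (secEquiv Ω ((Scheme.Modules.pullback π).obj L)).finrank_eq.symm.trans hN
  have hspan : Submodule.span Ω (Set.range fun p : SecM A L ⊤ => fun k => algebraMap A Ω
      ((LinearMap.pi fun k => evL (x k) (hx k) (he k)) p k)) = ⊤ := by
    have h4 : ∀ q : Q, E' q ∈ Submodule.span Ω (Set.range fun p : SecM A L ⊤ => fun k => algebraMap A Ω
        ((LinearMap.pi fun k => evL (x k) (hx k) (he k)) p k)) := by
      intro q
      induction q using hbc.inductionOn with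
      | zero => rw [map_zero]; exact Submodule.zero_mem _
      | tmul p =>
        refine Submodule.subset_span ⟨p, ?_⟩
        ext k
        have h8 : (psL π sq L ⊤ p : Γ((Scheme.Modules.pullback π).obj L, π ⁻¹ᵁ ⊤)) = pullTop π (show Γ(L, ⊤) from p) :=
          ps_eq π L ⊤ p
        refine (hev k p).symm.trans ?_
        exact congrArg (fun t => evL (x' k) (hx' k) (he' k) t) h8.symm
      | smul ω q hq => rw [map_smul]; exact Submodule.smul_mem _ _ hq
      | add p q hp hq => rw [map_add]; exact Submodule.add_mem _ hp hq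
    rw [eq_top_iff]
    intro v _
    rw [hv v]
    exact Submodule.sum_mem _ fun i _ => Submodule.smul_mem _ _ (h4 _)
  obtain ⟨a, s, ha, hs⟩ := exists_lift _ hspan
  refine ⟨a, s, fun i => algebraMap A Ω a * (c i)⁻¹, ha, fun i => mul_ne_zero ha (inv_ne_zero (hc0 i)), fun i k => ?_, fun i => ?_⟩
  · rw [evL_spec (x k) (hx k) (he k) (s i)]
    have h6 := congrFun (hs i) k
    rw [LinearMap.pi_apply] at h6
    rw [← h6]
  · refine hinj ?_
    have h7 : E' (show Q from pullTop π (s i)) = Pi.single i (algebraMap A Ω a) := by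
      ext k
      refine (hev k (s i)).trans ?_
      have h6 := congrFun (hs i) k
      rw [LinearMap.pi_apply] at h6
      refine (congrArg (algebraMap A Ω) h6).trans ?_
      by_cases hik : k = i
      · subst hik
        rw [Pi.single_eq_same, Pi.single_eq_same]
      · rw [Pi.single_eq_of_ne hik, Pi.single_eq_of_ne hik, map_zero]
    refine h7.trans ?_
    have h8 : E' ((algebraMap A Ω a * (c i)⁻¹) • (show Q from s' i)) = Pi.single i (algebraMap A Ω a) := by
      rw [map_smul, hE, ← Pi.single_smul, smul_eq_mul, mul_assoc, inv_mul_cancel₀ (hc0 i), mul_one]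
    exact h8.symm

end geom

end

end K272.Fr
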