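import Groth.Agent.AgPol.K272.EvLin
import Groth.Agent.AgPol.K272.NormBc
import Groth.Agent.AgPol.K515.RankPol
import Groth.Agent.AgPol.K533.PolClBC

/-!
# The geometric fibres of a core family
-/

set_option autoImplicit false
universe u

open CategoryTheory Limits MonoidalCategory CartesianMonoidalCategory AlgebraicGeometry
open scoped MonObj

namespace K272.Fr

open K117.Ag Groth.Agent.Grpsch.PicGrp K732.BC

noncomputable section

/-- The cohomology of `c ^ 3` on the geometric fibres. -/
theorem fibC (h14161 : K515.PolFinMain.Stmt14161.{u}) {T : Scheme.{u}} (X : Over T) [GrpObj X] {g d m : ℕ}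
    (hm : m + 1 = 6 ^ g * d) (hX : AgPol.IsAbSch X g) (hcomm : IsCommMonObj X) {c : Pic X.left} (hc : IsPolCl X d c)
    {L : X.left.Modules} (hL : PicF.IsInvertible L) (N : Pic T) (hLc : mk L hL = c ^ 3 * pull X.hom N) :
    FibC X.hom L (m + 1) := by
  intro Ω _ _ t
  let B : Over (Spec (CommRingCat.of Ω)) := Red.bc t X
  have hB : AgPol.IsAbSch B g := K533.PolBC.isAbSch_bc t hX
  have hcB : IsPolCl B d (pull (pullback.fst X.hom t) c) := K533.PolClBC.isPolCl_bc t hX hc
  have hLB : PicF.IsInvertible ((Scheme.Modules.pullback (pullback.fst X.hom t)).obj L) :=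
    Groth.Agent.Fdesc.LocGen.isInvertible_pullback _ hL
  have hcl : mk ((Scheme.Modules.pullback (pullback.fst X.hom t)).obj L) hLB = (pull (pullback.fst X.hom t) c) ^ 3 := by
    rw [← pull_mk (pullback.fst X.hom t) hL, hLc, map_mul, map_pow, ← pull_comp, pullback.condition, pull_comp]
    have h1 : pull t N = 1 := pic_spec_local Ω _
    rw [h1, map_one, mul_one]
  obtain ⟨h1, h2⟩ := K515.RankPol.rank h14161 B g d hB hcB 3 (by norm_num) _ hLB hcl
  have := hB.smooth
  have := hB.proper
  have := hB.geomConnected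
  have hint : GeometricallyIntegral B.hom := K814.AbBasic.geometricallyIntegral B
  refine ⟨fun p hp => K511.AmpleVan.vanish B _ h1 p hp, ?_⟩
  rw [hm]
  exact h2

end

end K272.Fr
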