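import Groth.Agent.AgPol.K272.FrLocal

/-!
# Frames extend to neighbourhoods

* `EvDat I y L s β` : the values of the sections `s` at the points `I k` of the family are `β k i`, in terms of generators;
* `framed_of_evDat` : frames from sections;
* `nhd_main : Node.Nhd g d n m`.
-/

set_option autoImplicit false
universe u

open CategoryTheory Limits MonoidalCategory CartesianMonoidalCategory AlgebraicGeometry
open scoped MonObj

namespace K272.Fr

open K117.Ag K390.PnSec Groth.Agent.Fdesc.LocGen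
open Groth.Agent.Grpsch.PicGrp K732.BC

noncomputable section

theorem exists_isGen_of_eq_one {X : Scheme.{u}} {M : X.Modules} {hM : PicF.IsInvertible M} (h : mk M hM = 1) :
    ∃ e : Γ(M, ⊤), IsGen e := by
  obtain ⟨τ⟩ := (mk_eq_one_iff hM).1 h
  exact ⟨τ.inv.app ⊤ (one ⊤), (isGen_one ⊤).app τ.inv⟩

variable {S : Scheme.{u}} {g n m : ℕ}

/-- The points of the frame. -/
abbrev ptI (I : Fin (m + 2) → (Fin (2 * g) → Fin n)) {Y : Over S} (y : Core Y g) (k : Fin (m + 2)) : Y.left ⟶ y.X.left :=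
  (tp y.X y.σ (I k)).left

/-- The values of the sections `s` at the points of the frame. -/
def EvDat (I : Fin (m + 2) → (Fin (2 * g) → Fin n)) {Y : Over S} (y : Core Y g) (L : y.X.left.Modules)
    (s : Fin (m + 1) → Γ(L, ⊤)) (β : Fin (m + 2) → Fin (m + 1) → Γ(Y.left, ⊤)) : Prop :=
  ∀ k, ∃ e : Γ((Scheme.Modules.pullback (ptI I y k)).obj L, ⊤), IsGen e ∧ ∀ i, pullTop (ptI I y k) (s i) = β k i • e

theorem ptI_bc (I : Fin (m + 2) → (Fin (2 * g) → Fin n)) {Y Y' : Over S} (y : Core Y g) (h : Y' ⟶ Y) (k : Fin (m + 2)) :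
    ptI I (y.pull h) k ≫ pullback.fst y.X.hom h.left = h.left ≫ ptI I y k := by
  have h1 : tp (y.pull h).X (y.pull h).σ (I k) = secBc h.left (tp y.X y.σ (I k)) := tp_bc h.left y.X y.σ (I k)
  change (tp (y.pull h).X (y.pull h).σ (I k)).left ≫ _ = _
  rw [h1]
  exact secBc_left_fst _ _

theorem ptI_hom (I : Fin (m + 2) → (Fin (2 * g) → Fin n)) {Y : Over S} (y : Core Y g) (k : Fin (m + 2)) :
    ptI I y k ≫ y.X.hom = 𝟙 _ := Over.w (tp y.X y.σ (I k))

/-- Base change. -/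
theorem EvDat.bc {I : Fin (m + 2) → (Fin (2 * g) → Fin n)} {Y Y' : Over S} {y : Core Y g} {L : y.X.left.Modules}
    {s : Fin (m + 1) → Γ(L, ⊤)} {β : Fin (m + 2) → Fin (m + 1) → Γ(Y.left, ⊤)} (h : EvDat I y L s β) (f : Y' ⟶ Y) :
    EvDat I (y.pull f) ((Scheme.Modules.pullback (pullback.fst y.X.hom f.left)).obj L)
      (fun i => pullTop (pullback.fst y.X.hom f.left) (s i)) (fun k i => f.left.appTop (β k i)) := by
  intro k
  obtain ⟨e, he, hs⟩ := h k
  obtain ⟨θ, hθ⟩ := exists_theta (ptI_bc I y f k).symm L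
  refine ⟨θ.hom.app ⊤ (pullTop f.left e), (he.pullTop _).app θ.hom, fun i => ?_⟩
  have h1 : pullTop f.left (β k i • e) = f.left.appTop (β k i) • pullTop f.left e := pullSec_smul _ _ _
  refine (hθ (s i)).symm.trans ?_
  rw [hs i, h1]
  exact Scheme.Modules.Hom.app_smul θ.hom _ _

theorem appTop_appTop_hom {Y : Over S} (y : Core Y g) (I : Fin (m + 2) → (Fin (2 * g) → Fin n)) (k : Fin (m + 2))
    (a : Γ(Y.left, ⊤)) : (ptI I y k).appTop (y.X.hom.appTop a) = a := by
  rw [← CommRingCat.comp_apply, ← Scheme.Hom.comp_appTop, ptI_hom]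
  rfl

/-- **Frames from sections.** -/
theorem framed_of_evDat {I : Fin (m + 2) → (Fin (2 * g) → Fin n)} {Y : Over S} {y : Core Y g} {L : y.X.left.Modules}
    (hL : PicF.IsInvertible L) (hLc : mk L hL = y.c ^ 3) {s : Fin (m + 1) → Γ(L, ⊤)}
    {β : Fin (m + 2) → Fin (m + 1) → Γ(Y.left, ⊤)} (h : EvDat I y L s β)
    (hgen : ⨆ i, CohB1.genLocus L (homOf (s i)) = ⊤) {α : Γ(Y.left, ⊤)} (hα : IsUnit α)
    (h1 : ∀ k i, β (Fin.castSucc k) i = Pi.single (M := fun _ : Fin (m + 1) => Γ(Y.left, ⊤)) i α k)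
    (h2 : ∀ i, IsUnit (β (Fin.last (m + 1)) i)) : Framed I Y y := by
  choose w hw using fun i => (h2 i).exists_right_inv
  have hwu : ∀ i, IsUnit (w i) := fun i => IsUnit.of_mul_eq_one _ ((mul_comm _ _).trans (hw i))
  let s' : Fin (m + 1) → Γ(L, ⊤) := fun i => y.X.hom.appTop (w i) • s i
  have hgen' : ⨆ i, CohB1.genLocus L (homOf (s' i)) = ⊤ := by
    rw [← hgen]
    refine iSup_congr fun i => ?_
    have h3 : ∀ U : y.X.left.Opens, U ≤ CohB1.genLocus L (homOf (s' i)) ↔ U ≤ CohB1.genLocus L (homOf (s i)) := by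
      intro U
      rw [le_genLocus_iff, le_genLocus_iff, sec_homOf, sec_homOf]
      have h4 : res L (le_top : U ≤ ⊤) (s' i) = ores le_top (y.X.hom.appTop (w i)) • res L le_top (s i) := res_smul _ _ _ _
      rw [h4]
      have h5 : IsUnit (ores (le_top : U ≤ ⊤) (y.X.hom.appTop (w i))) :=
        ((hwu i).map y.X.hom.appTop.hom).map (ores (le_top : U ≤ ⊤))
      constructor
      · intro h6
        obtain ⟨v, hv⟩ := h5.exists_left_inv
        have h7 := h6.unit_smul (IsUnit.of_mul_eq_one _ hv)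
        rwa [smul_smul, hv, one_smul] at h7
      · intro h6
        exact h6.unit_smul h5
    exact le_antisymm ((h3 _).1 le_rfl) ((h3 _).2 le_rfl)
  obtain ⟨r, hr⟩ := exists_givenBy' s' hgen'
  refine ⟨r, ⟨1, ?_⟩, fun k => ?_⟩
  · rw [map_one, mul_one, ← hLc]
    obtain ⟨τ, -⟩ := hr
    exact (mk_eq_iff _ _).2 ⟨τ⟩
  · refine (isPt_comp_iff hr (ptI I y k) _).2 ?_
    obtain ⟨e, he, hse⟩ := h k
    have h3 : ∀ i, pullTop (ptI I y k) (s' i) = w i • β k i • e := by
      intro i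
      have h4 : pullTop (ptI I y k) (s' i) = (ptI I y k).appTop (y.X.hom.appTop (w i)) • pullTop (ptI I y k) (s i) :=
        pullSec_smul _ _ _
      rw [h4, hse, appTop_appTop_hom]
    obtain ⟨k', rfl⟩ | rfl := Fin.eq_castSucc_or_eq_last k
    · refine ⟨(w k' * α) • e, he.unit_smul ((hwu k').mul hα), fun i => ?_⟩
      rw [h3, h1, stdv_castSucc]
      by_cases hik : i = k'
      · subst hik
        rw [Pi.single_eq_same, Pi.single_eq_same, one_smul, smul_smul]
      · rw [Pi.single_eq_of_ne hik, Pi.single_eq_of_ne (Ne.symm hik), zero_smul, zero_smul, smul_zero]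
    · refine ⟨e, he, fun i => ?_⟩
      rw [h3, stdv_last, one_smul, smul_smul, mul_comm, hw, one_smul]

theorem genLocus_smul {X : Scheme.{u}} {L : X.Modules} {u : Γ(X, ⊤)} (hu : IsUnit u) (s : Γ(L, ⊤)) :
    CohB1.genLocus L (homOf (u • s)) = CohB1.genLocus L (homOf s) := by
  have h3 : ∀ U : X.Opens, U ≤ CohB1.genLocus L (homOf (u • s)) ↔ U ≤ CohB1.genLocus L (homOf s) := by
    intro U
    rw [le_genLocus_iff, le_genLocus_iff, sec_homOf, sec_homOf]
    have h4 : res L (le_top : U ≤ ⊤) (u • s) = ores le_top u • res L le_top s := res_smul _ _ _ _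
    rw [h4]
    have h5 : IsUnit (ores (le_top : U ≤ ⊤) u) := hu.map (ores (le_top : U ≤ ⊤))
    constructor
    · intro h6
      obtain ⟨v, hv⟩ := h5.exists_left_inv
      have h7 := h6.unit_smul (IsUnit.of_mul_eq_one _ hv)
      rwa [smul_smul, hv, one_smul] at h7
    · intro h6
      exact h6.unit_smul h5
  exact le_antisymm ((h3 _).1 le_rfl) ((h3 _).2 le_rfl)

section geompt

variable {Ω : Type u} [Field Ω]

theorem isUnit_inv_of_ne_zero {c : Ω} (hc : c ≠ 0) : IsUnit ((Scheme.ΓSpecIso (CommRingCat.of Ω)).inv c) :=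
  (IsUnit.mk0 c hc).map (Scheme.ΓSpecIso (CommRingCat.of Ω)).inv.hom

theorem preimage_basicOpen_eq_top {Y : Scheme.{u}} {Z : Scheme.{u}} (τ : Z ⟶ Y) {a : Γ(Y, ⊤)} (h : IsUnit (τ.appTop a)) :
    τ ⁻¹ᵁ (Y.basicOpen a) = ⊤ := by
  rw [Scheme.preimage_basicOpen]
  exact Scheme.basicOpen_of_isUnit _ h

theorem isUnit_of_top {X : Scheme.{u}} {a : Γ(X, ⊤)} (h : X.basicOpen a = ⊤) : IsUnit a :=
  RingedSpace.isUnit_of_isUnit_germ (X := X.toRingedSpace) ⊤ _ fun x hx =>
    (X.mem_basicOpen _ x hx).1 (h.ge hx)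

theorem isUnit_basicOpen {Y : Scheme.{u}} (V : Y.Opens) {a : Γ(Y, ⊤)} (h : V ≤ Y.basicOpen a) : IsUnit (V.ι.appTop a) := by
  have h1 : (V : Scheme.{u}).basicOpen (V.ι.appTop a) = ⊤ := by
    have h2 : V.ι ⁻¹ᵁ (Y.basicOpen a) = (V : Scheme.{u}).basicOpen (V.ι.appTop a) := Scheme.preimage_basicOpen _ _
    rw [← h2, eq_top_iff]
    intro z _
    exact h z.2
  exact isUnit_of_top h1

end geompt

/-- **NHD over an affine base.** -/
theorem nhd_aff (h14161 : K515.PolFinMain.Stmt14161.{u}) {d : ℕ} (hm : m + 1 = 6 ^ g * d) {A : Type u} [CommRing A]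
    (b : Spec (CommRingCat.of A) ⟶ S) (y : Core (Over.mk b) g) (hab : AgPol.IsAbSch y.X g)
    (hcomm : IsCommMonObj y.X) (hpol : IsPolCl y.X d y.c) (I : Fin (m + 2) → (Fin (2 * g) → Fin n))
    {L : y.X.left.Modules} (hL : PicF.IsInvertible L) (hLc : mk L hL = y.c ^ 3)
    {e : ∀ k, Γ((Scheme.Modules.pullback (ptI I y k)).obj L, ⊤)} (he : ∀ k, IsGen (e k))
    (Ω : Type u) [Field Ω] [IsAlgClosed Ω] (τ : Spec (CommRingCat.of Ω) ⟶ Spec (CommRingCat.of A))
    (hfr : Framed I _ (y.pull (Over.homMk τ rfl : Over.mk (τ ≫ b) ⟶ Over.mk b))) :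
    ∃ V : (Spec (CommRingCat.of A)).Opens, Set.range τ ⊆ V ∧ Framed I _ (y.pull (resH (Over.mk b) V)) := by
  let f : Over.mk (τ ≫ b) ⟶ Over.mk b := Over.homMk τ rfl
  let z := y.pull f
  obtain ⟨ρ, hρ⟩ := hfr
  let π := pullback.fst y.X.hom τ
  let M := (Scheme.Modules.pullback π).obj L
  have hM : PicF.IsInvertible M := isInvertible_pullback _ hL
  have hF := fibC h14161 y.X hm hab hcomm hpol hL 1 (by rw [map_one, mul_one, hLc])
  -- sections on the fibre
  obtain ⟨s', hs'⟩ : ∃ s' : Fin (m + 1) → Γ(M, ⊤), GivenBy ρ M s' := by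
    obtain ⟨N, hN⟩ := hρ.cls
    have hN1 : N = 1 := pic_spec_local Ω N
    have h1 : pull ρ (o1 m) = mk M hM := by
      rw [hN, hN1, map_one, mul_one, ← pull_mk π hL, hLc, map_pow]
      rfl
    obtain ⟨ε⟩ := (mk_eq_iff (isInvertible_pullback _ (isInvertible_O1 m Z.{u})) hM).1 h1
    exact ⟨_, (GivenBy.refl ρ).of_iso ε⟩
  have hpt : ∀ k, ∃ e'' : Γ((Scheme.Modules.pullback (ptI I z k)).obj M, ⊤), IsGen e'' ∧
      ∀ i, pullTop (ptI I z k) (s' i) = stdv Γ(Spec (CommRingCat.of Ω), ⊤) m k i • e'' :=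
    fun k => (isPt_comp_iff hs' (ptI I z k) _).1 (hρ.pts k)
  choose e'' he'' hse'' using hpt
  -- lifting
  let iX : y.X.left.Over (Spec (CommRingCat.of A)) := ⟨y.X.hom⟩
  let iZ : (pullback y.X.hom τ).Over (Spec (CommRingCat.of Ω)) := ⟨pullback.snd y.X.hom τ⟩
  let iA : Algebra A Ω := (Spec.preimage τ).hom.toAlgebra
  have hτ : Spec.map (CommRingCat.ofHom (algebraMap A Ω)) = τ := Spec.map_preimage τ
  have i1 : IsProper (y.X.left ↘ Spec (CommRingCat.of A)) := hab.proper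
  have i0 : Smooth (y.X.left ↘ Spec (CommRingCat.of A)) := hab.smooth
  have i2 : Flat (y.X.left ↘ Spec (CommRingCat.of A)) := inferInstance
  have i3 : LocallyOfFinitePresentation (y.X.left ↘ Spec (CommRingCat.of A)) := inferInstance
  have sq : IsPullback π (pullback y.X.hom τ ↘ Spec (CommRingCat.of Ω)) (y.X.left ↘ Spec (CommRingCat.of A))
      (Spec.map (CommRingCat.ofHom (algebraMap A Ω))) := by
    rw [hτ]
    exact IsPullback.of_hasPullback y.X.hom τ
  obtain ⟨a, s, c, ha, hc, hs, hsc⟩ := exists_ev_lift (A := A) (X := y.X.left) (π := π) hL (N := m + 1) hF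
    (x := fun k => ptI I y k.castSucc) (fun k => ptI_hom I y k.castSucc) (fun k => he k.castSucc) sq (hF Ω τ).2
    (x' := fun k => ptI I z k.castSucc) (fun k => ptI_hom I z k.castSucc)
    (fun k => by rw [hτ]; exact ptI_bc I y f k.castSucc) s' (fun k => e'' k.castSucc) (fun k => he'' k.castSucc)
    (fun i k => (hse'' k.castSucc i).trans (by rw [stdv_castSucc, Pi.single_comm]; rfl))
  -- the values of the lifted sections
  let α : Γ(Spec (CommRingCat.of A), ⊤) := (Scheme.ΓSpecIso (CommRingCat.of A)).inv a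
  choose v hv using fun i => (he (Fin.last (m + 1))).exists_eq (pullTop (ptI I y (Fin.last (m + 1))) (s i))
  let β : Fin (m + 2) → Fin (m + 1) → Γ(Spec (CommRingCat.of A), ⊤) :=
    Fin.lastCases (motive := fun _ => Fin (m + 1) → Γ(Spec (CommRingCat.of A), ⊤)) v
      (fun k i => Pi.single (M := fun _ : Fin (m + 1) => Γ(Spec (CommRingCat.of A), ⊤)) i α k)
  have hβ1 : ∀ k, β (Fin.castSucc k) = fun i => Pi.single (M := fun _ : Fin (m + 1) => Γ(Spec (CommRingCat.of A), ⊤)) i α k :=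
    fun k => Fin.lastCases_castSucc k
  have hβ2 : β (Fin.last (m + 1)) = v := Fin.lastCases_last
  have hEv : EvDat I y L s β := by
    intro k
    refine ⟨e k, he k, fun i => ?_⟩
    obtain ⟨k', rfl⟩ | rfl := Fin.eq_castSucc_or_eq_last k
    · rw [hβ1]
      refine (hs i k').trans ?_
      congr 1
      beta_reduce
      by_cases hik : k' = i
      · subst hik
        rw [Pi.single_eq_same, Pi.single_eq_same]
      · rw [Pi.single_eq_of_ne hik, Pi.single_eq_of_ne hik, map_zero]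
    · rw [hβ2]
      exact hv i
  have hEvz := hEv.bc f
  have hαu : IsUnit (τ.appTop α) := by
    have h1 : τ.appTop α = (Scheme.ΓSpecIso (CommRingCat.of Ω)).inv (algebraMap A Ω a) := by
      rw [← hτ]
      exact congr($((Scheme.ΓSpecIso_inv_naturality (CommRingCat.ofHom (algebraMap A Ω))).symm) a)
    rw [h1]
    exact isUnit_inv_of_ne_zero ha
  have hvu : ∀ i, IsUnit (τ.appTop (v i)) := by
    intro i
    obtain ⟨e1, he1, hs1⟩ := hEvz (Fin.last (m + 1))
    have h1 := hs1 i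
    have h2 : pullTop (ptI I z (Fin.last (m + 1))) (pullTop π (s i)) =
        (Scheme.ΓSpecIso (CommRingCat.of Ω)).inv (c i) • e'' (Fin.last (m + 1)) := by
      rw [hsc i]
      have h3 : pullTop (ptI I z (Fin.last (m + 1))) (K792.SecBC.sc Ω (pullback y.X.hom τ) ⊤ (c i) • s' i) =
          (ptI I z (Fin.last (m + 1))).appTop (K792.SecBC.sc Ω (pullback y.X.hom τ) ⊤ (c i)) •
            pullTop (ptI I z (Fin.last (m + 1))) (s' i) := pullSec_smul _ _ _
      refine h3.trans ?_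
      have h4 : (ptI I z (Fin.last (m + 1))).appTop (K792.SecBC.sc Ω (pullback y.X.hom τ) ⊤ (c i)) =
        (Scheme.ΓSpecIso (CommRingCat.of Ω)).inv (c i) :=
        appTop_sc (X := pullback y.X.hom τ) (ptI I z (Fin.last (m + 1))) (ptI_hom I z (Fin.last (m + 1))) (c i)
      rw [h4]
      congr 1
      refine (hse'' (Fin.last (m + 1)) i).trans ?_
      rw [stdv_last, one_smul]
    have h5 : IsGen (τ.appTop (β (Fin.last (m + 1)) i) • e1) := by
      have h6 := (he'' (Fin.last (m + 1))).unit_smul (isUnit_inv_of_ne_zero (hc i))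
      rw [← h2] at h6
      exact Eq.mp (congrArg IsGen h1) h6
    rw [hβ2] at h5
    exact he1.isUnit_of_smul h5
  -- the generating locus
  let G : y.X.left.Opens := ⨆ i, CohB1.genLocus L (homOf (s i))
  have hG : π ⁻¹ᵁ G = ⊤ := by
    have hg0 : ⨆ i, CohB1.genLocus M (homOf (s' i)) = ⊤ := hs'.iSup_genLocus
    rw [Scheme.Hom.preimage_iSup]
    refine Eq.trans ?_ hg0
    refine iSup_congr fun i => ?_
    rw [← genLocus_pullTop _ hL, hsc i]
    have hu : IsUnit (K792.SecBC.sc Ω (pullback y.X.hom τ) ⊤ (c i)) :=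
      (IsUnit.mk0 (c i) (hc i)).map (K792.SecBC.sc Ω (pullback y.X.hom τ) ⊤)
    exact genLocus_smul hu _
  let v' : Fin (m + 1) → Γ(Spec (CommRingCat.of A), ⊤) := v
  let υ : Γ(Spec (CommRingCat.of A), ⊤) := α * ∏ i, v' i
  have hυ : IsUnit (τ.appTop υ) := by
    have h1 : τ.appTop υ = τ.appTop α * ∏ i, τ.appTop (v' i) := by
      change τ.appTop.hom (α * ∏ i, v' i) = _
      rw [map_mul, map_prod]
    rw [h1]
    refine hαu.mul ?_
    exact Finset.prod_induction _ IsUnit (fun _ _ h1 h2 => h1.mul h2) isUnit_one (fun i _ => hvu i)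
  have iP : IsProper y.X.hom := hab.proper
  have hclosed : IsClosed (y.X.hom '' (G : Set y.X.left)ᶜ) :=
    (Scheme.Hom.isClosedMap y.X.hom) _ G.2.isClosed_compl
  let V : (Spec (CommRingCat.of A)).Opens :=
    (Spec (CommRingCat.of A)).basicOpen υ ⊓ ⟨(y.X.hom '' (G : Set y.X.left)ᶜ)ᶜ, hclosed.isOpen_compl⟩
  have hV1 : V ≤ (Spec (CommRingCat.of A)).basicOpen υ := inf_le_left
  have hV2 : ∀ w : y.X.left, y.X.hom w ∈ V → w ∈ G := by
    intro w hw
    by_contra hwG
    exact hw.2 ⟨w, hwG, rfl⟩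
  refine ⟨V, ?_, ?_⟩
  · rintro _ ⟨p, rfl⟩
    refine ⟨?_, ?_⟩
    · have h1 := preimage_basicOpen_eq_top τ hυ
      have h2 : p ∈ τ ⁻¹ᵁ ((Spec (CommRingCat.of A)).basicOpen υ) := by rw [h1]; trivial
      exact h2
    · rintro ⟨w, hw, hwp⟩
      obtain ⟨q, hq1, -⟩ := Scheme.Pullback.exists_preimage_pullback (f := y.X.hom) (g := τ) w p hwp
      have h1 : q ∈ π ⁻¹ᵁ G := by rw [hG]; trivial
      apply hw
      rw [← hq1]
      exact h1
  · let jV : resO (Over.mk b) V ⟶ Over.mk b := resH (Over.mk b) V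
    have hυV : IsUnit (V.ι.appTop α * ∏ i, V.ι.appTop (v' i)) := by
      have h1 : V.ι.appTop υ = V.ι.appTop α * ∏ i, V.ι.appTop (v' i) := by
        change V.ι.appTop.hom (α * ∏ i, v' i) = _
        rw [map_mul, map_prod]
      rw [← h1]
      exact isUnit_basicOpen V hV1
    have hαV : IsUnit (V.ι.appTop α) := isUnit_of_mul_isUnit_left hυV
    have hvV : ∀ i, IsUnit (V.ι.appTop (v i)) := fun i =>
      isUnit_of_dvd_unit (Finset.dvd_prod_of_mem (fun i => V.ι.appTop (v' i)) (Finset.mem_univ i))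
        (isUnit_of_mul_isUnit_right hυV)
    have hLV : PicF.IsInvertible ((Scheme.Modules.pullback (pullback.fst y.X.hom V.ι)).obj L) :=
      isInvertible_pullback _ hL
    refine framed_of_evDat (L := (Scheme.Modules.pullback (pullback.fst y.X.hom V.ι)).obj L) hLV ?_ (hEv.bc jV) ?_ hαV ?_ ?_
    · exact (pull_mk (pullback.fst y.X.hom V.ι) hL).symm.trans
        ((congrArg (pull (pullback.fst y.X.hom V.ι)) hLc).trans (map_pow _ _ _))
    · have h1 : ∀ i, CohB1.genLocus _ (homOf (pullTop (pullback.fst y.X.hom V.ι) (s i))) =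
        (pullback.fst y.X.hom V.ι) ⁻¹ᵁ (CohB1.genLocus L (homOf (s i))) := fun i => genLocus_pullTop _ hL (s i)
      refine (iSup_congr h1).trans ?_
      refine (Scheme.Hom.preimage_iSup _ _).symm.trans (eq_top_iff.2 ?_)
      intro q _
      refine hV2 _ ?_
      have h2 : y.X.hom (pullback.fst y.X.hom V.ι q) = V.ι (pullback.snd y.X.hom V.ι q) := by
        rw [← Scheme.Hom.comp_apply, ← Scheme.Hom.comp_apply, pullback.condition]
      change y.X.hom (pullback.fst y.X.hom V.ι q) ∈ V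
      rw [h2]
      exact (pullback.snd y.X.hom V.ι q).2
    · intro k i
      change V.ι.appTop (β k.castSucc i) = _
      rw [hβ1]
      beta_reduce
      by_cases hik : k = i
      · subst hik
        rw [Pi.single_eq_same, Pi.single_eq_same]
      · rw [Pi.single_eq_of_ne hik, Pi.single_eq_of_ne hik, map_zero]
    · intro i
      change IsUnit (V.ι.appTop (β (Fin.last (m + 1)) i))
      rw [hβ2]
      exact hvV i

/-- A common neighbourhood. -/
theorem exists_nhd_family {X : Scheme.{u}} {κ : Type} [Finite κ] (c : κ → Pic X) (x : X) :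
    ∃ U : X.Opens, x ∈ U ∧ ∀ k, ∀ {Y : Scheme.{u}} (f : Y ⟶ X), f ⁻¹ᵁ U = ⊤ → pull f (c k) = 1 := by
  choose U hU hc using fun k => exists_nhd_triv (c k) x
  refine ⟨⟨⋂ k, (U k : Set X), isOpen_iInter_of_finite fun k => (U k).2⟩, Set.mem_iInter.2 hU, fun k Y f hf => ?_⟩
  refine hc k f ?_
  rw [eq_top_iff, ← hf]
  intro y hy
  exact Set.mem_iInter.1 hy k

/-- **NHD** -/
theorem nhd_main (h14161 : K515.PolFinMain.Stmt14161.{u}) {d : ℕ} (hm : m + 1 = 6 ^ g * d) : Node.Nhd.{u} g d n m := by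
  intro S T x hT hx I Ω _ _ t hfr
  obtain ⟨L, hL, hLc⟩ := exists_mk (x.c ^ 3)
  obtain ⟨U₁, ht₁, h₁⟩ := exists_nhd_family (fun k : Fin (m + 2) => pull (ptI I x k) (x.c ^ 3))
    (t (IsLocalRing.closedPoint Ω))
  obtain ⟨U, hU, htU, hUle⟩ := exists_isAffineOpen_mem_and_subset (x := t (IsLocalRing.closedPoint Ω)) (U := U₁) ht₁
  let A := Γ(T.left, U)
  let k0 : affO T hU ⟶ T := affH T hU
  have hk0 : k0.left ⁻¹ᵁ U₁ = ⊤ := preimage_eq_top (range_affH T hU).le hUle
  let y : Core (affO T hU) g := x.pull k0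
  have hy := core_pull_ok k0 hx
  let LX := (Scheme.Modules.pullback (pullback.fst x.X.hom k0.left)).obj L
  have hLX : PicF.IsInvertible LX := isInvertible_pullback _ hL
  have hLXc : mk LX hLX = y.c ^ 3 :=
    (pull_mk (pullback.fst x.X.hom k0.left) hL).symm.trans
      ((congrArg (pull (pullback.fst x.X.hom k0.left)) hLc.symm).trans (map_pow _ _ _))
  have hgen : ∀ k, ∃ e : Γ((Scheme.Modules.pullback (ptI I y k)).obj LX, ⊤), IsGen e := by
    intro k
    refine exists_isGen_of_eq_one (hM := isInvertible_pullback _ hLX) ?_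
    rw [← pull_mk (ptI I y k) hLX]
    have h2 : mk LX hLX = pull (pullback.fst x.X.hom k0.left) (x.c ^ 3) :=
      (pull_mk (pullback.fst x.X.hom k0.left) hL).symm.trans (congrArg (pull (pullback.fst x.X.hom k0.left)) hLc.symm)
    refine (congrArg (pull (ptI I y k)) h2).trans ?_
    refine (pull_comp _ _ _).symm.trans ?_
    refine (congrArg (fun q => pull q (x.c ^ 3)) (ptI_bc I x k0 k)).trans ?_
    rw [pull_comp]
    exact h₁ k k0.left hk0
  choose e he using hgen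
  -- the geometric point
  have hran : Set.range t ⊆ Set.range hU.fromSpec := by
    rw [hU.range_fromSpec]
    rintro _ ⟨p, rfl⟩
    rw [Subsingleton.elim p (IsLocalRing.closedPoint Ω)]
    exact htU
  let τ : Spec (CommRingCat.of Ω) ⟶ Spec A := IsOpenImmersion.lift hU.fromSpec t hran
  have hτ : τ ≫ hU.fromSpec = t := IsOpenImmersion.lift_fac _ _ _
  have hfr' : Framed I _ (y.pull (Over.homMk τ rfl : Over.mk (τ ≫ hU.fromSpec ≫ T.hom) ⟶ Over.mk (hU.fromSpec ≫ T.hom))) := by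
    let w : Over.mk (τ ≫ hU.fromSpec ≫ T.hom) ⟶ Over.mk (t ≫ T.hom) := Over.homMk (𝟙 _) (by
      change 𝟙 _ ≫ t ≫ T.hom = τ ≫ hU.fromSpec ≫ T.hom
      rw [Category.id_comp, ← Category.assoc τ, hτ])
    have h3 := framed_bc w hfr
    rw [← framed_comp] at h3
    have h4 : w ≫ (Over.homMk t rfl : Over.mk (t ≫ T.hom) ⟶ T) =
        (Over.homMk τ rfl : Over.mk (τ ≫ hU.fromSpec ≫ T.hom) ⟶ Over.mk (hU.fromSpec ≫ T.hom)) ≫ k0 := by
      ext1
      change 𝟙 _ ≫ t = τ ≫ hU.fromSpec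
      rw [Category.id_comp, hτ]
    rw [h4, framed_comp] at h3
    exact h3
  obtain ⟨V, hV, hfrV⟩ := nhd_aff (A := A) h14161 hm (hU.fromSpec ≫ T.hom) y hy.ab hy.comm hy.pol I hLX hLXc he Ω τ hfr'
  refine ⟨hU.fromSpec ''ᵁ V, ?_, ?_⟩
  · rintro _ ⟨p, rfl⟩
    rw [← hτ, Scheme.Hom.comp_apply]
    exact ⟨τ p, hV ⟨p, rfl⟩, rfl⟩
  · have hran2 : Set.range (hU.fromSpec ''ᵁ V).ι ⊆ Set.range (V.ι ≫ hU.fromSpec) := by
      rw [Scheme.Opens.range_ι]
      rintro _ ⟨q, hq, rfl⟩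
      exact ⟨⟨q, hq⟩, rfl⟩
    let l0 : (hU.fromSpec ''ᵁ V : Scheme.{u}) ⟶ V := IsOpenImmersion.lift (V.ι ≫ hU.fromSpec) (hU.fromSpec ''ᵁ V).ι hran2
    have hl0 : l0 ≫ V.ι ≫ hU.fromSpec = (hU.fromSpec ''ᵁ V).ι := IsOpenImmersion.lift_fac _ _ _
    let l : resO T (hU.fromSpec ''ᵁ V) ⟶ resO (affO T hU) V := Over.homMk l0 (by
      change l0 ≫ V.ι ≫ hU.fromSpec ≫ T.hom = (hU.fromSpec ''ᵁ V).ι ≫ T.hom
      rw [← hl0]
      simp)
    have h3 := framed_bc l hfrV
    rw [← framed_comp, ← framed_comp] at h3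
    have h4 : (l ≫ resH (affO T hU) V) ≫ k0 = resH T (hU.fromSpec ''ᵁ V) := by
      ext1
      change (l0 ≫ V.ι) ≫ hU.fromSpec = (hU.fromSpec ''ᵁ V).ι
      rw [Category.assoc, hl0]
    rw [h4] at h3
    exact h3

end

end K272.Fr
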